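import Groth.Agent.DimFormula.Scheme

/-!
# Dimensions of local rings of schemes, of their fibres and of closed subschemes
-/

set_option autoImplicit false
set_option linter.style.haveILetI false
universe u

open CategoryTheory AlgebraicGeometry Topology TopologicalSpace
open Groth.Agent Groth.Agent.Unibranch Groth.Agent.EquidimPt

namespace Groth.Agent.DimFormula

variable {X Y : Scheme.{u}}

theorem genChainsLE_iff (x : X) {k : ℕ} :
    GenChainsLE x k ↔ ∀ ζ, IsMaxPt ζ → ζ ⤳ x → GenLE ζ x k := by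
  refine ⟨fun h ζ _ _ n c h1 _ h3 => h n c h1 h3, fun h n c h1 h3 => ?_⟩
  obtain ⟨ζ, hζ, hζc⟩ := exists_isMaxPt_specializes (c 0)
  exact h ζ hζ (hζc.trans (h3 ▸ specializes_last h1 0)) n c h1 hζc h3

/-- The dimension of a local ring is attained along some component. -/
theorem exists_ringKrullDim_stalk [IsLocallyNoetherian X] (x : X) :
    ∃ A : ℕ, ringKrullDim (X.presheaf.stalk x) = (A : WithBot ℕ∞) ∧ GenChainsLE x A ∧
      ∃ ζ, IsMaxPt ζ ∧ ζ ⤳ x ∧ HasGen ζ x A := by
  classical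
  obtain ⟨K, hK⟩ := exists_genChainsLE x
  let P : ℕ → Prop := fun k => ∃ ζ, IsMaxPt ζ ∧ ζ ⤳ x ∧ HasGen ζ x k
  obtain ⟨ζ₀, hζ₀, hζ₀x⟩ := exists_isMaxPt_specializes x
  have hP0 : P 0 := ⟨ζ₀, hζ₀, hζ₀x, hasGen_zero hζ₀x⟩
  have hspec := Nat.findGreatest_spec (P := P) (Nat.zero_le K) hP0
  have hle : GenChainsLE x (Nat.findGreatest P K) := fun n c h1 h3 => by
    obtain ⟨ζ, hζ, hζc⟩ := exists_isMaxPt_specializes (c 0)
    exact Nat.le_findGreatest (hK n c h1 h3)
      ⟨ζ, hζ, hζc.trans (h3 ▸ specializes_last h1 0), c, h1, hζc, h3⟩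
  refine ⟨_, le_antisymm ((ringKrullDim_stalk_le_iff x).mpr hle) ?_, hle, hspec⟩
  obtain ⟨ζ, hζ, hζx, c, h1, h2, h3⟩ := hspec
  obtain ⟨A, hA⟩ : ∃ A : ℕ, ringKrullDim (X.presheaf.stalk x) = (A : WithBot ℕ∞) := by
    obtain ⟨k, hk⟩ := ENat.ne_top_iff_exists.mp
      (Ideal.height_ne_top_of_isPrime (I := IsLocalRing.maximalIdeal (X.presheaf.stalk x)))
    refine ⟨k, ?_⟩
    rw [← IsLocalRing.maximalIdeal_height_eq_ringKrullDim, ← hk]
    rfl
  rw [hA]
  exact_mod_cast (genChainsLE_of_ringKrullDim_le x hA.le) _ c h1 h3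

theorem ringKrullDim_stalk_eq_iff [IsLocallyNoetherian X] (x : X) {k : ℕ} :
    ringKrullDim (X.presheaf.stalk x) = (k : WithBot ℕ∞) ↔
      GenChainsLE x k ∧ ∃ ζ, IsMaxPt ζ ∧ ζ ⤳ x ∧ HasGen ζ x k := by
  obtain ⟨A, hA, hle, ζ, hζ, hζx, hge⟩ := exists_ringKrullDim_stalk x
  rw [hA, Nat.cast_inj]
  constructor
  · rintro rfl
    exact ⟨hle, ζ, hζ, hζx, hge⟩
  · rintro ⟨h, ξ, hξ, hξx, hξge⟩
    exact le_antisymm (((genChainsLE_iff x).mp h ζ hζ hζx).le_of_hasGen hge)
      (((genChainsLE_iff x).mp hle ξ hξ hξx).le_of_hasGen hξge)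

/-- Chains of generisations in a closed subscheme with underlying set `closure {ζ}`. -/
theorem genChainsLE_subscheme {Z : Scheme.{u}} (ι : Z ⟶ X) [IsClosedImmersion ι] {ζ : X}
    (hr : Set.range ι = closure {ζ}) (w : Z) {k : ℕ} : GenChainsLE w k ↔ GenLE ζ (ι w) k := by
  have hsp : ∀ p q, ι p ⤳ ι q ↔ p ⤳ q := fun p q => ι.isEmbedding.isInducing.specializes_iff
  constructor
  · intro h n c h1 h2 h3
    choose d hd using fun i => hr.ge (specializes_iff_mem_closure.mp
      (show ζ ⤳ c i from h2.trans (Unibranch.specializes_of_chain c h1 i)))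
    refine h n d (fun i => ⟨(hsp _ _).mp ?_, fun e => (h1 i).2 ?_⟩) (ι.isEmbedding.injective ?_)
    · rw [hd, hd]; exact (h1 i).1
    · rw [← hd, ← hd, e]
    · rw [hd]; exact h3
  · intro h n c h1 h3
    exact h n (fun i => ι (c i)) (fun i => ⟨(h1 i).1.map ι.continuous, fun e => (h1 i).2 (ι.isEmbedding.injective e)⟩)
      (specializes_iff_mem_closure.mpr (hr.le ⟨_, rfl⟩)) (congrArg ι h3)

/-- The dimension of the local ring of a closed subscheme with underlying set `closure {ζ}`. -/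
theorem ringKrullDim_stalk_subscheme [IsLocallyNoetherian X] {Z : Scheme.{u}} (ι : Z ⟶ X)
    [IsClosedImmersion ι] {ζ : X} (hr : Set.range ι = closure {ζ}) (w : Z) {k : ℕ}
    (h1 : GenLE ζ (ι w) k) (h2 : HasGen ζ (ι w) k) :
    ringKrullDim (Z.presheaf.stalk w) = (k : WithBot ℕ∞) := by
  haveI : IsLocallyNoetherian Z := LocallyOfFiniteType.isLocallyNoetherian ι
  obtain ⟨A, hA, hle, ξ, -, -, c, hc, -, hcl⟩ := exists_ringKrullDim_stalk w
  rw [hA, Nat.cast_inj]
  refine le_antisymm ?_ ?_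
  · exact (genChainsLE_subscheme ι hr w).mpr h1 A c hc hcl
  · exact ((genChainsLE_subscheme ι hr w).mp hle).le_of_hasGen h2

/-- Chains of generisations in the fibre bound the dimension of its local ring. -/
theorem ringKrullDim_fiber_stalk_le_iff (f : X ⟶ Y) (x : X) {k : ℕ} :
    ringKrullDim ((f.fiber (f x)).presheaf.stalk (f.asFiber x)) ≤ (k : WithBot ℕ∞) ↔
      ∀ (n : ℕ) (c : Fin (n + 1) → X), IsChain' c → (∀ i, f (c i) = f x) → c (Fin.last n) = x → n ≤ k := by
  rw [ringKrullDim_stalk_le_iff]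
  let j := f.fiberι (f x)
  have hsp : ∀ p q, j p ⤳ j q ↔ p ⤳ q := fun p q => j.isEmbedding.isInducing.specializes_iff
  constructor
  · intro h n c h1 h2 h3
    choose d hd using fun i => (show c i ∈ Set.range j by rw [Scheme.Hom.range_fiberι]; exact h2 i)
    refine h n d (fun i => ⟨(hsp _ _).mp ?_, fun e => (h1 i).2 ?_⟩) (j.isEmbedding.injective ?_)
    · rw [hd, hd]; exact (h1 i).1
    · rw [← hd, ← hd, e]
    · rw [hd, h3]; exact (f.fiberι_asFiber x).symm
  · intro h n c h1 h3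
    refine h n (fun i => j (c i)) (fun i => ⟨(h1 i).1.map j.continuous, fun e => (h1 i).2 (j.isEmbedding.injective e)⟩)
      (fun i => ?_) ((congrArg j h3).trans (f.fiberι_asFiber x))
    have : j (c i) ∈ Set.range j := ⟨_, rfl⟩
    rw [Scheme.Hom.range_fiberι] at this
    exact this

theorem eq_of_between (f : X ⟶ Y) {m z x : X} (hmz : m ⤳ z) (hzx : z ⤳ x) (hm : f m = f x) :
    f z = f x :=
  ((hzx.map f.continuous).antisymm
    ((specializes_of_eq hm.symm).trans (hmz.map f.continuous))).eq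

/-- **The local dimension of a fibre is the dimension of its local ring plus the dimension of the
closure of the point in the fibre.** -/
theorem exists_fibre_dims [IsLocallyNoetherian Y] (f : X ⟶ Y) [LocallyOfFiniteType f] (x : X) :
    ∃ b δ : ℕ, ringKrullDim ((f.fiber (f x)).presheaf.stalk (f.asFiber x)) = (b : WithBot ℕ∞) ∧
      FlatMor.fibreDimAt f x = ((b + δ : ℕ) : WithBot ℕ∞) ∧
      ChainsLE f (closure {x}) (f x) δ ∧ HasChain f (closure {x}) (f x) δ ∧
      (∀ m, f m = f x → m ⤳ x → GenLE m x b) ∧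
      ∃ m, f m = f x ∧ m ⤳ x ∧ IsFibMax f m ∧ HasGen m x b ∧
        HasChain f (closure {m}) (f x) (b + δ) := by
  haveI : IsLocallyNoetherian X := LocallyOfFiniteType.isLocallyNoetherian f
  obtain ⟨D, hD⟩ := exists_fibreDimAt_eq f x
  obtain ⟨m, hmx, hfm, hm, hch⟩ := exists_max_hasChain f x hD.ge
  obtain ⟨δ, hδle, hδge, -⟩ := exists_dim_closure_eq f x
  obtain ⟨b, hble, hbge⟩ := exists_genLE_hasGen hmx
  obtain ⟨U, hxU, hU⟩ := (fibreDimAt_le_iff f x).mp hD.le
  have hup : ∀ m', f m' = f x → m' ⤳ x → ∀ k, HasGen m' x k → k + δ ≤ D := fun m' hfm' hm'x k hk => by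
    have he : ChainsLE f (closure {m'}) (f m') D :=
      chainsLE_of_specializes f hm'x hxU (hU.mono Set.inter_subset_left)
    have := dimension_inequality f hm'x hk (c := 0) (hfm' ▸ genLE_self (f x)) hδge he
    omega
  rw [← hfm] at hch
  have hlow : D ≤ b + δ := by
    have h1 := (hasChain_sub_of_genLE f hch b hmx hble).le hδle
    omega
  have hDeq : D = b + δ := le_antisymm hlow (hup m hfm hmx b hbge)
  have hall : ∀ m', f m' = f x → m' ⤳ x → GenLE m' x b := fun m' hfm' hm'x n c h1 h2 h3 => by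
    have := hup m' hfm' hm'x n ⟨c, h1, h2, h3⟩
    omega
  refine ⟨b, δ, le_antisymm ?_ ?_, hDeq ▸ hD, hδle, hδge, hall,
    ⟨m, hfm, hmx, fun w hw hwm => hm w (hw.trans hfm) hwm, hbge, hfm ▸ hDeq ▸ hch⟩⟩
  · rw [ringKrullDim_fiber_stalk_le_iff]
    intro n c h1 h2 h3
    exact hall (c 0) (h2 0) (h3 ▸ specializes_last h1 0) n c h1 specializes_rfl h3
  · obtain ⟨c, h1, h2, h3⟩ := hbge
    haveI : LocallyOfFiniteType (f.fiberToSpecResidueField (f x)) :=
      MorphismProperty.pullback_snd (P := @LocallyOfFiniteType) _ _ inferInstance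
    haveI : IsLocallyNoetherian (f.fiber (f x)) :=
      LocallyOfFiniteType.isLocallyNoetherian (f.fiberToSpecResidueField (f x))
    obtain ⟨B, hB, -⟩ := exists_ringKrullDim_stalk (f.asFiber x)
    rw [hB]
    exact_mod_cast (ringKrullDim_fiber_stalk_le_iff f x).mp hB.le b c h1
      (fun i => eq_of_between f (h2.trans (Unibranch.specializes_of_chain c h1 i))
        (h3 ▸ specializes_last h1 i) hfm) h3

end Groth.Agent.DimFormula
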