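import Groth.Agent.DimFormula.Equidim
import Groth.Agent.Unibranch.LiftDim
import Mathlib.RingTheory.KrullDimension.Regular

/-!
# Local dimensions at points of openness
-/

set_option autoImplicit false
set_option linter.style.haveILetI false
universe u

open scoped Pointwise
open CategoryTheory AlgebraicGeometry Topology TopologicalSpace
open Groth.Agent Groth.Agent.Unibranch Groth.Agent.EquidimPt

namespace Groth.Agent.DimFormula

/-- A local homomorphism of Noetherian local rings, surjective on spectra with a single prime over the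
closed point, does not lower the dimension. -/
theorem ringKrullDim_le_of_comap_surjective (n : ℕ) :
    ∀ (R S : Type u) [CommRing R] [CommRing S] [IsNoetherianRing R] [IsNoetherianRing S] [IsLocalRing R]
      [IsLocalRing S] (φ : R →+* S), Function.Surjective (PrimeSpectrum.comap φ) →
      (∀ Q : PrimeSpectrum S, PrimeSpectrum.comap φ Q = IsLocalRing.closedPoint R → Q = IsLocalRing.closedPoint S) →
      ringKrullDim S ≤ (n : WithBot ℕ∞) → ringKrullDim R ≤ (n : WithBot ℕ∞) := by
  induction n with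
  | zero =>
    intro R S _ _ _ _ _ _ φ hsur hfib hS
    haveI : Ring.KrullDimLE 0 S := Ring.krullDimLE_iff.mpr hS
    refine iSup_le fun l => WithBot.coe_le_coe.mpr ?_
    have hall : ∀ i, l i = IsLocalRing.closedPoint R := fun i => by
      obtain ⟨Q, hQ⟩ := hsur (l i)
      obtain ⟨Q', hQ'⟩ := hsur (IsLocalRing.closedPoint R)
      have h1 : Q = IsLocalRing.closedPoint S :=
        PrimeSpectrum.ext (IsLocalRing.eq_maximalIdeal Q.2.isMaximal')
      rw [← hQ, h1, ← hfib Q' hQ', hQ']
    by_contra hne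
    have hpos : 0 < l.length := by
      rcases Nat.eq_zero_or_pos l.length with h | h
      · simp [h] at hne
      · exact h
    exact (show l (Fin.castSucc ⟨0, hpos⟩) < l (Fin.succ ⟨0, hpos⟩) from l.step ⟨0, hpos⟩).ne
      ((hall _).trans (hall _).symm)
  | succ n ih =>
    intro R S _ _ _ _ _ _ φ hsur hfib hS
    classical
    by_cases hmin : IsLocalRing.maximalIdeal R ∈ minimalPrimes R
    · refine le_trans (le_of_eq ?_) (Nat.cast_nonneg (α := WithBot ℕ∞) (n + 1))
      rw [← IsLocalRing.maximalIdeal_height_eq_ringKrullDim, Ideal.height_eq_zero_iff.mpr hmin]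
      rfl
    have hfin : (minimalPrimes S).Finite := Ideal.finite_minimalPrimes_of_isNoetherianRing S ⊥
    obtain ⟨a, ham, haq⟩ : ∃ a ∈ IsLocalRing.maximalIdeal R, ∀ q ∈ minimalPrimes S, φ a ∉ q := by
      by_contra! hcon
      have hsub : (IsLocalRing.maximalIdeal R : Set R) ⊆
          ⋃ q ∈ (hfin.toFinset : Set (Ideal S)), (q.comap φ : Set R) := fun a ha => by
        obtain ⟨q, hq, haq⟩ := hcon a ha
        exact Set.mem_biUnion (by simpa using hq) haq
      obtain ⟨q₀, hq₀⟩ := hcon 0 (zero_mem _)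
      obtain ⟨q, hq, hle⟩ := (Ideal.subset_union_prime q₀ q₀ fun q hq _ _ => by
        haveI := (hfin.mem_toFinset.mp hq).1.1
        infer_instance).mp hsub
      have hqmin := hfin.mem_toFinset.mp hq
      haveI := hqmin.1.1
      have h1 : q.comap φ = IsLocalRing.maximalIdeal R :=
        le_antisymm (IsLocalRing.le_maximalIdeal (Ideal.IsPrime.ne_top inferInstance)) hle
      have h2 := hfib ⟨q, hqmin.1.1⟩ (PrimeSpectrum.ext h1)
      refine hmin ⟨⟨inferInstance, bot_le⟩, fun p hp _ => ?_⟩
      obtain ⟨Q, hQ⟩ := hsur ⟨p, hp.1⟩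
      have hQm : Q.asIdeal ≤ q := (IsLocalRing.le_maximalIdeal Q.2.ne_top).trans
        (congrArg PrimeSpectrum.asIdeal h2).ge
      have hQq : q ≤ Q.asIdeal := hqmin.2 ⟨Q.2, bot_le⟩ hQm
      rw [← h1, show p = Q.asIdeal.comap φ from (congrArg PrimeSpectrum.asIdeal hQ).symm]
      exact Ideal.comap_mono hQq
    let I : Ideal R := Ideal.span {a}
    let J : Ideal S := Ideal.span {φ a}
    have hI : I ≠ ⊤ := fun e => (IsLocalRing.maximalIdeal.isMaximal R).ne_top
      (top_unique (e ▸ Ideal.span_le.mpr (Set.singleton_subset_iff.mpr ham)))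
    have hJm : J ≤ IsLocalRing.maximalIdeal S := Ideal.span_le.mpr (Set.singleton_subset_iff.mpr (by
      obtain ⟨Q, hQ⟩ := hsur (IsLocalRing.closedPoint R)
      have := hfib Q hQ
      subst this
      exact (congrArg PrimeSpectrum.asIdeal hQ).ge ham))
    haveI : Nontrivial (R ⧸ I) := Ideal.Quotient.nontrivial_iff.mpr hI
    haveI : Nontrivial (S ⧸ J) := Ideal.Quotient.nontrivial_iff.mpr fun e =>
      (IsLocalRing.maximalIdeal.isMaximal S).ne_top (top_unique (e ▸ hJm))
    haveI : IsLocalRing (R ⧸ I) := .of_surjective' (Ideal.Quotient.mk I) Ideal.Quotient.mk_surjective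
    haveI : IsLocalRing (S ⧸ J) := .of_surjective' (Ideal.Quotient.mk J) Ideal.Quotient.mk_surjective
    have hcpR : PrimeSpectrum.comap (Ideal.Quotient.mk I) (IsLocalRing.closedPoint _) = IsLocalRing.closedPoint R :=
      PrimeSpectrum.ext (IsLocalRing.eq_maximalIdeal (Ideal.comap_isMaximal_of_surjective _ Ideal.Quotient.mk_surjective (H := IsLocalRing.maximalIdeal.isMaximal _)))
    have hcpS : PrimeSpectrum.comap (Ideal.Quotient.mk J) (IsLocalRing.closedPoint _) = IsLocalRing.closedPoint S :=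
      PrimeSpectrum.ext (IsLocalRing.eq_maximalIdeal (Ideal.comap_isMaximal_of_surjective _ Ideal.Quotient.mk_surjective (H := IsLocalRing.maximalIdeal.isMaximal _)))
    let φ' : R ⧸ I →+* S ⧸ J := Ideal.quotientMap J φ (Ideal.span_le.mpr
      (Set.singleton_subset_iff.mpr (Ideal.subset_span rfl)))
    have hsq : ∀ Q, PrimeSpectrum.comap (Ideal.Quotient.mk I) (PrimeSpectrum.comap φ' Q) =
        PrimeSpectrum.comap φ (PrimeSpectrum.comap (Ideal.Quotient.mk J) Q) := fun Q => by
      rw [← PrimeSpectrum.comap_comp_apply, ← PrimeSpectrum.comap_comp_apply]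
      congr 1
    have hinj := PrimeSpectrum.comap_injective_of_surjective _ (Ideal.Quotient.mk_surjective (I := I))
    have hinjS := PrimeSpectrum.comap_injective_of_surjective _ (Ideal.Quotient.mk_surjective (I := J))
    have h1 : ringKrullDim (R ⧸ I) ≤ (n : WithBot ℕ∞) := by
      refine ih (R ⧸ I) (S ⧸ J) φ' (fun P => ?_) (fun Q hQ => ?_) ?_
      · obtain ⟨Q, hQ⟩ := hsur (PrimeSpectrum.comap (Ideal.Quotient.mk I) P)
        have hJQ : J ≤ Q.asIdeal := Ideal.span_le.mpr (Set.singleton_subset_iff.mpr (by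
          refine (congrArg PrimeSpectrum.asIdeal hQ).ge ?_
          show Ideal.Quotient.mk I a ∈ P.asIdeal
          rw [Ideal.Quotient.eq_zero_iff_mem.mpr (Ideal.subset_span (Set.mem_singleton _))]
          exact zero_mem _))
        obtain ⟨Q', hQ'⟩ : Q ∈ Set.range (PrimeSpectrum.comap (Ideal.Quotient.mk J)) := by
          rw [range_comap_of_surjective _ _ Ideal.Quotient.mk_surjective,
            PrimeSpectrum.mem_zeroLocus, Ideal.mk_ker]
          exact hJQ
        exact ⟨Q', hinj (by rw [hsq, hQ', hQ])⟩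
      · refine hinjS ?_
        rw [hcpS]
        refine hfib _ ?_
        rw [← hsq, hQ, hcpR]
      · refine iSup_le fun l => WithBot.coe_le_coe.mpr ?_
        let l' := l.map _ (RingHom.strictMono_comap_of_surjective (Ideal.Quotient.mk_surjective (I := J)))
        obtain ⟨q, hq, hql⟩ := Ideal.exists_minimalPrimes_le (I := (⊥ : Ideal S)) (J := l'.head.asIdeal) bot_le
        have hlt : (⟨q, hq.1.1⟩ : PrimeSpectrum S) < l'.head := lt_of_le_of_ne hql fun e => haq q hq (by
          have h3 : φ a ∈ l'.head.asIdeal := by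
            rw [LTSeries.head_map, PrimeSpectrum.comap_asIdeal, Ideal.mem_comap,
              Ideal.Quotient.eq_zero_iff_mem.mpr (Ideal.subset_span (Set.mem_singleton _))]
            exact zero_mem _
          rw [← e] at h3
          exact h3)
        have h4 := (Order.LTSeries.length_le_krullDim (l'.cons _ hlt)).trans hS
        have h5 : l.length + 1 ≤ n + 1 := by
          have h6 : (l'.cons _ hlt).length = l.length + 1 := by simp [l', add_comm]
          rw [h6] at h4
          exact_mod_cast h4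
        exact_mod_cast (show l.length ≤ n by omega)
    refine le_trans (ringKrullDim_le_ringKrullDim_quotSMulTop_succ ham) ?_
    have he : (a • (⊤ : Ideal R)) = I := by
      rw [← Submodule.ideal_span_singleton_smul, Ideal.smul_eq_mul, Ideal.mul_top]
    rw [he]
    push_cast
    exact add_le_add h1 le_rfl

end Groth.Agent.DimFormula

namespace Groth.Agent.DimFormula

variable {X Y : Scheme.{u}}

theorem fromSpecStalk_stalkMap (f : X ⟶ Y) (z : X) (Q : PrimeSpectrum (X.presheaf.stalk z)) :
    Y.fromSpecStalk (f z) (PrimeSpectrum.comap (f.stalkMap z).hom Q) = f (X.fromSpecStalk z Q) := by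
  refine Eq.trans ?_ ((congr($(Scheme.SpecMap_stalkMap_fromSpecStalk f (x := z)) Q)).trans
    (Scheme.Hom.comp_apply _ _ _))
  exact (Scheme.Hom.comp_apply (Spec.map (f.stalkMap z)) (Y.fromSpecStalk (f z)) Q).symm

/-- An open morphism at a maximal point of a fibre does not lower the dimension of local rings. -/
theorem ringKrullDim_stalk_le_of_isOpenAt [IsLocallyNoetherian X] [IsLocallyNoetherian Y] (f : X ⟶ Y)
    {z : X} (hmax : IsFibMax f z) (H : EGA43.IsOpenAt f z) :
    ringKrullDim (Y.presheaf.stalk (f z)) ≤ ringKrullDim (X.presheaf.stalk z) := by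
  obtain ⟨A, hA, -⟩ := exists_ringKrullDim_stalk z
  rw [hA]
  have hclY : Y.fromSpecStalk (f z) (IsLocalRing.closedPoint _) = f z := Scheme.fromSpecStalk_closedPoint
  have hclX : X.fromSpecStalk z (IsLocalRing.closedPoint _) = z := Scheme.fromSpecStalk_closedPoint
  have hgen : ∀ Q : PrimeSpectrum (X.presheaf.stalk z), X.fromSpecStalk z Q ⤳ z := fun Q => by
    have : X.fromSpecStalk z Q ∈ Set.range (X.fromSpecStalk z) := ⟨_, rfl⟩
    rwa [Scheme.range_fromSpecStalk] at this
  refine ringKrullDim_le_of_comap_surjective A _ _ (f.stalkMap z).hom (fun P => ?_) (fun Q hQ => ?_) hA.le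
  · have hP : Y.fromSpecStalk (f z) P ⤳ f z := by
      have : Y.fromSpecStalk (f z) P ∈ Set.range (Y.fromSpecStalk (f z)) := ⟨_, rfl⟩
      rwa [Scheme.range_fromSpecStalk] at this
    obtain ⟨ζ, hζz, hζ⟩ := exists_specializes_of_isOpenAt f H hP
    obtain ⟨Q, rfl⟩ := exists_fromSpecStalk_eq hζz
    exact ⟨Q, (Y.fromSpecStalk (f z)).isEmbedding.injective ((fromSpecStalk_stalkMap f z Q).trans hζ)⟩
  · have h1 := fromSpecStalk_stalkMap f z Q
    rw [hQ, hclY] at h1
    exact (X.fromSpecStalk z).isEmbedding.injective ((hmax _ h1.symm (hgen Q)).trans hclX.symm)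

/-- Chains of specialisations concatenate. -/
theorem HasGen.trans {ζ m x : X} {a b : ℕ} (h₁ : HasGen ζ m a) (h₂ : HasGen m x b) :
    ∃ n, a + b ≤ n ∧ HasGen ζ x n := by
  obtain ⟨c, hc, hc0, hcl⟩ := h₁
  obtain ⟨d, hd, hd0, hdl⟩ := h₂
  induction a generalizing ζ with
  | zero => exact ⟨b, by omega, d, hd, ((hc0.trans (specializes_of_eq hcl))).trans hd0, hdl⟩
  | succ a ih =>
    obtain ⟨n, hn, g, hg, hg0, hgl⟩ := ih (ζ := c (Fin.succ 0)) (fun i => c i.succ) (fun i => hc i.succ)
      specializes_rfl hcl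
    refine ⟨n + 1, by omega, Fin.cons (c 0) g, fun i => ?_, by simpa using hc0, by
      rw [← Fin.succ_last, Fin.cons_succ]; exact hgl⟩
    refine Fin.cases ?_ (fun j => ?_) i
    · simp only [Fin.castSucc_zero, Fin.cons_zero, Fin.cons_succ]
      refine ⟨(hc 0).1.trans hg0, fun e => (hc 0).2 ?_⟩
      exact ((hc 0).1.antisymm ((hg0.trans (specializes_of_eq e.symm)))).eq
    · simp only [Fin.castSucc_succ, Fin.cons_succ]
      exact hg j

/-- **Equidimensionality from the dimension formula**: `O_x` equidimensional of dimension at least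
`dim O_y + dim O_{X_y,x}`. -/
theorem isEquidimAt_of_dim [IsLocallyNoetherian Y] (f : X ⟶ Y) [LocallyOfFiniteType f] (x : X)
    (hX : EGA4.IsEquidim (X.presheaf.stalk x))
    (h : ringKrullDim (Y.presheaf.stalk (f x)) + ringKrullDim ((f.fiber (f x)).presheaf.stalk (f.asFiber x)) ≤
      ringKrullDim (X.presheaf.stalk x)) : EGA43.IsEquidimAt f x := by
  haveI : IsLocallyNoetherian X := LocallyOfFiniteType.isLocallyNoetherian f
  obtain ⟨A, hA, -⟩ := exists_ringKrullDim_stalk x
  obtain ⟨c, hc, hcle, -⟩ := exists_ringKrullDim_stalk (f x)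
  obtain ⟨b, δ, hb, hD, -, hδ, -⟩ := exists_fibre_dims f x
  rw [hA, hc, hb, ← Nat.cast_add, Nat.cast_le] at h
  obtain ⟨U, hxU, hU⟩ := (fibreDimAt_le_iff f x).mp hD.le
  have key : ∀ ζ, IsMaxPt ζ → ζ ⤳ x → IsMaxPt (f ζ) ∧ HasChain f (closure {ζ}) (f ζ) (b + δ) := by
    intro ζ hζ hζx
    obtain ⟨e, hele, hege, -⟩ := exists_dim_closure_eq f ζ
    have he : e ≤ b + δ := hege.le (chainsLE_of_specializes f hζx hxU (hU.mono Set.inter_subset_left))
    obtain ⟨c', hc'le, hc'ge⟩ := exists_genLE_hasGen (hζx.map f.continuous)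
    obtain ⟨g, hg, hg0, hgl⟩ := hc'ge
    have hc'c : c' ≤ c := hcle c' g hg hgl
    have hA' := (isEquidim_stalk_iff x hA).mp hX ζ hζ hζx
    have h1 := dimension_inequality f hζx hA' hc'le hδ hele
    refine ⟨fun η hη => ?_, hege.anti (by omega)⟩
    by_contra hne
    obtain ⟨n, hn, g', hg', -, hgl'⟩ := HasGen.trans (a := 1) (b := c') (ζ := η) (m := f ζ)
      ⟨![η, f ζ], fun i => by fin_cases i; exact ⟨hη, hne⟩, specializes_rfl, rfl⟩ ⟨g, hg, hg0, hgl⟩
    have := hcle n g' hg' hgl'
    omega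
  exact isEquidimAt_of_components f x (fun ζ h₁ h₂ => (key ζ h₁ h₂).1) (fun ζ h₁ h₂ => (key ζ h₁ h₂).2)
    ⟨U, hxU, hU⟩

/-- Openness at a maximal point of the fibre gives the lower bound of the dimension formula. -/
theorem dim_le_of_isOpenAt [IsLocallyNoetherian Y] (f : X ⟶ Y) [LocallyOfFiniteType f] (x : X)
    (h : ∀ z : X, f z = f x → z ⤳ x → IsFibMax f z → EGA43.IsOpenAt f z) :
    ringKrullDim (Y.presheaf.stalk (f x)) + ringKrullDim ((f.fiber (f x)).presheaf.stalk (f.asFiber x)) ≤
      ringKrullDim (X.presheaf.stalk x) := by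
  haveI : IsLocallyNoetherian X := LocallyOfFiniteType.isLocallyNoetherian f
  obtain ⟨b, δ, hb, -, -, -, -, m, hfm, hmx, hm, hbm, -⟩ := exists_fibre_dims f x
  obtain ⟨A, hA, hAle, -⟩ := exists_ringKrullDim_stalk x
  obtain ⟨a, ha, hale, ζ, hζ, hζm, hage⟩ := exists_ringKrullDim_stalk m
  have h1 := ringKrullDim_stalk_le_of_isOpenAt f hm (h m hfm hmx hm)
  rw [hfm, ha] at h1
  obtain ⟨n, hn, g, hg, -, hgl⟩ := hage.trans hbm
  have h2 := hAle n g hg hgl
  rw [hA, hb]
  refine le_trans (add_le_add h1 le_rfl) ?_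
  exact_mod_cast (show a + b ≤ A by omega)

end Groth.Agent.DimFormula
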