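import Groth.Agent.DimFormula.Dims

/-!
# Transcendence degrees of residue fields as dimensions of closures in fibres
-/

set_option autoImplicit false
set_option linter.style.haveILetI false
universe u

open CategoryTheory AlgebraicGeometry Topology TopologicalSpace
open Groth.Agent Groth.Agent.Unibranch Groth.Agent.EquidimPt

namespace Groth.Agent.DimFormula

variable {X Y : Scheme.{u}}

/-- The residue field at a point of an affine open is the fraction field of the quotient by its prime. -/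
theorem evaluation_facts {W : X.Opens} (hW : IsAffineOpen W) {x : X} (hxW : x ∈ W) :
    RingHom.ker (X.evaluation W x hxW).hom = (hW.primeIdealOf ⟨x, hxW⟩).asIdeal ∧
      ∀ z : X.residueField x, ∃ b d : Γ(X, W),
        (X.evaluation W x hxW).hom d ≠ 0 ∧ z * (X.evaluation W x hxW).hom d = (X.evaluation W x hxW).hom b := by
  let := X.presheaf.algebra_section_stalk ⟨x, hxW⟩
  have := hW.isLocalization_stalk ⟨x, hxW⟩
  have hker : RingHom.ker (X.evaluation W x hxW).hom = (hW.primeIdealOf ⟨x, hxW⟩).asIdeal := by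
    show RingHom.ker ((IsLocalRing.residue (X.presheaf.stalk x)).comp
      (algebraMap Γ(X, W) (X.presheaf.stalk x))) = _
    rw [← RingHom.comap_ker, IsLocalRing.ker_residue]
    exact IsLocalization.AtPrime.under_maximalIdeal (X.presheaf.stalk x) _
  refine ⟨hker, fun z => ?_⟩
  obtain ⟨z, rfl⟩ := IsLocalRing.residue_surjective z
  obtain ⟨⟨b, d⟩, hbd⟩ := IsLocalization.surj (hW.primeIdealOf ⟨x, hxW⟩).asIdeal.primeCompl z
  refine ⟨b, d, fun h ↦ d.2 ?_, ?_⟩
  · exact hker.le (show d.1 ∈ RingHom.ker (X.evaluation W x hxW).hom from h)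
  · show IsLocalRing.residue _ z * IsLocalRing.residue _
        (algebraMap Γ(X, W) (X.presheaf.stalk x) d) =
      IsLocalRing.residue _ (algebraMap Γ(X, W) (X.presheaf.stalk x) b)
    rw [← map_mul, hbd]

/-- A field all of whose elements are fractions of a subring is algebraic over it. -/
theorem isAlgebraic_of_fractions {D L : Type u} [CommRing D] [Field L] [Algebra D L]
    (h : ∀ z : L, ∃ b d : D, algebraMap D L d ≠ 0 ∧ z * algebraMap D L d = algebraMap D L b) :
    Algebra.IsAlgebraic D L := by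
  refine ⟨fun z => ?_⟩
  obtain ⟨b, d, hd, hz⟩ := h z
  refine ⟨Polynomial.C d * Polynomial.X - Polynomial.C b, fun e => hd ?_, ?_⟩
  · have := congrArg (fun p : Polynomial D => p.coeff 1) e
    simp only [Polynomial.coeff_sub, Polynomial.coeff_C_mul, Polynomial.coeff_X_one, mul_one,
      Polynomial.coeff_C_ne_zero one_ne_zero, sub_zero, Polynomial.coeff_zero] at this
    rw [this, map_zero]
  · simp only [map_sub, map_mul, Polynomial.aeval_C, Polynomial.aeval_X]
    rw [mul_comm, hz, sub_self]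

/-- The transcendence degree of the residue extension is the relative dimension in any chart. -/
theorem natCast_rdimIn_eq_trdeg (f : X ⟶ Y) [LocallyOfFiniteType f] {V : Y.Opens} {W : X.Opens}
    (hV : IsAffineOpen V) (hW : IsAffineOpen W) (hWV : W ≤ f ⁻¹ᵁ V) {x : X} (hxW : x ∈ W) :
    (rdimIn f hW hWV x hxW : Cardinal.{u}) =
      @Algebra.trdeg (Y.residueField (f x)) (X.residueField x) _ _ (f.residueFieldMap x).hom.toAlgebra := by
  letI alg := (f.appLE V W hWV).hom.toAlgebra
  haveI : Algebra.FiniteType Γ(Y, V) Γ(X, W) := f.finiteType_appLE hV hW hWV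
  letI algK := (f.residueFieldMap x).hom.toAlgebra
  let q := hW.primeIdealOf ⟨x, hxW⟩
  let p := q.asIdeal.under Γ(Y, V)
  have hyV : f x ∈ V := hWV hxW
  let ιY := (Y.evaluation V (f x) hyV).hom
  let ιX := (X.evaluation W x hxW).hom
  obtain ⟨hkX, hfX⟩ := evaluation_facts hW hxW
  obtain ⟨hkY, hfY⟩ := evaluation_facts hV hyV
  have hp : p = (hV.primeIdealOf ⟨f x, hyV⟩).asIdeal :=
    congrArg PrimeSpectrum.asIdeal (IsAffineOpen.comap_primeIdealOf_appLE V hV W hW hWV hxW)
  have hsq : ∀ a, algebraMap (Y.residueField (f x)) (X.residueField x) (ιY a) =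
      ιX (algebraMap Γ(Y, V) Γ(X, W) a) := fun a => by
    refine (Scheme.evaluation_naturality_apply f x hyV a).trans ?_
    show X.evaluation (f ⁻¹ᵁ V) x hyV (f.app V a) = X.evaluation W x hxW ((f.appLE V W hWV) a)
    rw [Scheme.Hom.appLE, CommRingCat.comp_apply]
    show _ = (X.presheaf.map (homOfLE hWV).op ≫ X.evaluation W x hxW) (f.app V a)
    congr 2
    rw [Scheme.evaluation, Scheme.evaluation, TopCat.Presheaf.germ_res_assoc]
  -- `A ⧸ p → κ(f x)` and `B ⧸ q → κ(x)`
  let jY : Γ(Y, V) ⧸ p →+* Y.residueField (f x) := Ideal.Quotient.lift p ιY fun a ha => by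
    rw [hp, ← hkY] at ha
    exact ha
  let jX : Γ(X, W) ⧸ q.asIdeal →+* X.residueField x := Ideal.Quotient.lift q.asIdeal ιX fun a ha => by
    rw [← hkX] at ha
    exact ha
  letI : Algebra (Γ(Y, V) ⧸ p) (Y.residueField (f x)) := jY.toAlgebra
  letI : Algebra (Γ(X, W) ⧸ q.asIdeal) (X.residueField x) := jX.toAlgebra
  letI : Algebra (Γ(Y, V) ⧸ p) (X.residueField x) :=
    ((algebraMap (Y.residueField (f x)) (X.residueField x)).comp jY).toAlgebra
  haveI : IsScalarTower (Γ(Y, V) ⧸ p) (Y.residueField (f x)) (X.residueField x) :=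
    IsScalarTower.of_algebraMap_eq fun _ => rfl
  haveI : IsScalarTower (Γ(Y, V) ⧸ p) (Γ(X, W) ⧸ q.asIdeal) (X.residueField x) :=
    IsScalarTower.of_algebraMap_eq fun a => by
      obtain ⟨a, rfl⟩ := Ideal.Quotient.mk_surjective a
      exact hsq a
  haveI : FaithfulSMul (Γ(Y, V) ⧸ p) (Y.residueField (f x)) :=
    (faithfulSMul_iff_algebraMap_injective _ _).mpr
      (RingHom.lift_injective_of_ker_le_ideal _ _ (by rw [hkY, ← hp]))
  haveI : FaithfulSMul (Γ(X, W) ⧸ q.asIdeal) (X.residueField x) :=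
    (faithfulSMul_iff_algebraMap_injective _ _).mpr
      (RingHom.lift_injective_of_ker_le_ideal _ _ (by rw [hkX]))
  haveI : FaithfulSMul (Γ(Y, V) ⧸ p) (Γ(X, W) ⧸ q.asIdeal) :=
    (faithfulSMul_iff_algebraMap_injective _ _).mpr (algebraMap_injective_quotient_under q.asIdeal)
  haveI : Algebra.IsAlgebraic (Γ(Y, V) ⧸ p) (Y.residueField (f x)) := isAlgebraic_of_fractions fun z => by
    obtain ⟨b, d, hd, hz⟩ := hfY z
    exact ⟨Ideal.Quotient.mk p b, Ideal.Quotient.mk p d, hd, hz⟩
  haveI : Algebra.IsAlgebraic (Γ(X, W) ⧸ q.asIdeal) (X.residueField x) := isAlgebraic_of_fractions fun z => by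
    obtain ⟨b, d, hd, hz⟩ := hfX z
    exact ⟨Ideal.Quotient.mk _ b, Ideal.Quotient.mk _ d, hd, hz⟩
  have h1 := trdeg_add_eq (Γ(Y, V) ⧸ p) (Y.residueField (f x)) (A := X.residueField x)
  rw [trdeg_eq_zero (R := Γ(Y, V) ⧸ p) (A := Y.residueField (f x)), zero_add] at h1
  have h2 := trdeg_add_eq (Γ(Y, V) ⧸ p) (Γ(X, W) ⧸ q.asIdeal) (A := X.residueField x)
  rw [trdeg_eq_zero (R := Γ(X, W) ⧸ q.asIdeal) (A := X.residueField x), add_zero] at h2
  refine (natCast_rdim (A := Γ(Y, V)) q.asIdeal).trans ?_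
  rw [h2, ← h1]

/-- The transcendence degree of the residue extension is the dimension of the closure in the fibre. -/
theorem exists_trdeg_eq (f : X ⟶ Y) [LocallyOfFiniteType f] (x : X) :
    ∃ δ : ℕ, @Algebra.trdeg (Y.residueField (f x)) (X.residueField x) _ _ (f.residueFieldMap x).hom.toAlgebra =
        (δ : Cardinal.{u}) ∧
      ChainsLE f (closure {x}) (f x) δ ∧ HasChain f (closure {x}) (f x) δ := by
  obtain ⟨V, W, hV, hW, hxW, hWV, -⟩ := exists_chart_le f (U := ⊤) (x := x) trivial
  exact ⟨_, (natCast_rdimIn_eq_trdeg f hV hW hWV hxW).symm,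
    chainsLE_of_specializes f specializes_rfl hxW (chainsLE_rdimIn hV hW hWV hxW),
    (hasChain_rdimIn hV hW hWV hxW).mono Set.inter_subset_right⟩

end Groth.Agent.DimFormula
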