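import Groth.Agent.DimFormula.Dims
import Groth.Agent.DimField.Cons

/-!
# Jumps of the fibre dimension over a base with Noetherian local ring
-/

set_option autoImplicit false
universe u

open CategoryTheory AlgebraicGeometry Topology TopologicalSpace Limits
open Groth.Agent Groth.Agent.Unibranch Groth.Agent.EquidimPt

namespace Groth.Agent.DimFormula

variable {X Y : Scheme.{u}}

/-- Fibre dimensions do not change along an embedding containing the fibre. -/
theorem fibreDimAt_of_embedding {X' Y' : Scheme.{u}} (f : X ⟶ Y) (f' : X' ⟶ Y') (ι : X' ⟶ X) (e : Y' ⟶ Y)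
    (hι : IsEmbedding ι) (he : Function.Injective e) (w : ∀ z, f (ι z) = e (f' z)) (x : X')
    (hr : ∀ z : X, f z = f (ι x) → z ∈ Set.range ι) :
    FlatMor.fibreDimAt f' x = FlatMor.fibreDimAt f (ι x) := by
  refine le_antisymm (le_of_forall_natCast_le fun k hk => (natCast_le_fibreDimAt_iff f _).mpr fun U hU => ?_)
    (le_of_forall_natCast_le fun k hk => (natCast_le_fibreDimAt_iff f' x).mpr fun U hU => ?_)
  · obtain ⟨c, hc, hc'⟩ := (natCast_le_fibreDimAt_iff f' x).mp hk (ι ⁻¹ᵁ U) hU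
    exact ⟨fun i => ι (c i), fun i => ⟨(hc i).1, by rw [w, w, (hc i).2]⟩,
      fun i => ⟨(hc' i).1.map ι.continuous, fun h => (hc' i).2 (hι.injective h)⟩⟩
  · obtain ⟨W, hW, hWU⟩ := hι.isInducing.isOpen_iff.mp U.2
    obtain ⟨c, hc, hc'⟩ := (natCast_le_fibreDimAt_iff f _).mp hk ⟨W, hW⟩ (hWU.ge hU)
    choose b hb using fun i => hr _ (hc i).2
    refine ⟨b, fun i => ⟨hWU.le (show ι (b i) ∈ W by rw [hb]; exact (hc i).1),
      he (by rw [← w, ← w, hb]; exact (hc i).2)⟩, fun i => ⟨hι.isInducing.specializes_iff.mp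
        (by rw [hb, hb]; exact (hc' i).1), fun h => (hc' i).2 (by rw [← hb, ← hb, h])⟩⟩

/-- Bounds on the fibre dimension by those at the maximal points, over a Noetherian base. -/
theorem fibreDimAt_bounds [IsLocallyNoetherian Y] (f : X ⟶ Y) [LocallyOfFiniteType f] (x : X) (d : ℕ)
    (hgen : ∀ ζ, IsMaxPt ζ → ζ ⤳ x → FlatMor.fibreDimAt f ζ = (d : WithBot ℕ∞)) :
    ∃ D C : ℕ, FlatMor.fibreDimAt f x = (D : WithBot ℕ∞) ∧
      ringKrullDim (Y.presheaf.stalk (f x)) = (C : WithBot ℕ∞) ∧ d ≤ D ∧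
      (D ≤ d ∨ D + 1 ≤ d + C) ∧
      ((∀ ζ, IsMaxPt ζ → ζ ⤳ x → f ζ ≠ f x) → D + 1 ≤ d + C) := by
  haveI : IsLocallyNoetherian X := LocallyOfFiniteType.isLocallyNoetherian f
  obtain ⟨C, hC, hCle, -⟩ := exists_ringKrullDim_stalk (f x)
  obtain ⟨b, δ, -, hD, -, hδ, -, m, hfm, hmx, -, hbm, hmch⟩ := exists_fibre_dims f x
  obtain ⟨ζ, hζ, hζm⟩ := exists_isMaxPt_specializes m
  obtain ⟨e, hele, hege, -⟩ := exists_dim_closure_eq f ζ
  have hed : e ≤ d := by
    have h : (e : WithBot ℕ∞) ≤ FlatMor.fibreDimAt f ζ :=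
      (natCast_le_fibreDimAt_iff f ζ).mpr fun U hU =>
        (hege.of_specializes specializes_rfl hU).mono Set.inter_subset_left
    rw [hgen ζ hζ (hζm.trans hmx)] at h
    exact_mod_cast h
  obtain ⟨a, hale, hage⟩ := exists_genLE_hasGen hζm
  rw [← hfm] at hmch hC hCle
  have hineq : a + (b + δ) ≤ C + e := dimension_inequality f hζm hage
    (fun n c h1 _ h3 => hCle n c h1 h3) hmch hele
  have hcase : a = 0 → b + δ ≤ d := fun ha => by
    have hζe : ζ = m := by
      by_contra hne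
      have := hale 1 ![ζ, m] (fun i => by fin_cases i; exact ⟨hζm, hne⟩) specializes_rfl rfl
      omega
    subst hζe
    exact (hmch.le hele).trans hed
  refine ⟨b + δ, C, hD, hfm ▸ hC, ?_, ?_, fun hne => ?_⟩
  · obtain ⟨ζ', hζ', hζ'x⟩ := exists_isMaxPt_specializes x
    have h := hgen ζ' hζ' hζ'x
    have hmem : x ∈ {z : X | (d : WithBot ℕ∞) ≤ FlatMor.fibreDimAt f z} :=
      hζ'x.mem_closed (DimField.isClosed_le_fibreDimAt f d) (show _ ≤ _ from h.ge)
    rw [Set.mem_setOf_eq, hD] at hmem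
    exact_mod_cast hmem
  · rcases Nat.eq_zero_or_pos a with ha | ha
    · exact Or.inl (hcase ha)
    · exact Or.inr (by omega)
  · rcases Nat.eq_zero_or_pos a with ha | ha
    · exfalso
      refine hne ζ hζ (hζm.trans hmx) ?_
      by_contra h
      have hζe : ζ ≠ m := fun e0 => h (e0 ▸ hfm)
      have := hale 1 ![ζ, m] (fun i => by fin_cases i; exact ⟨hζm, hζe⟩) specializes_rfl rfl
      omega
    · omega

/-- Bounds on the fibre dimension by those at the maximal points, over a base with Noetherian local ring. -/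
theorem fibreDimAt_bounds_stalk (f : X ⟶ Y) [LocallyOfFiniteType f] (x : X)
    [IsNoetherianRing (Y.presheaf.stalk (f x))] (d : ℕ)
    (hgen : ∀ ζ, IsMaxPt ζ → ζ ⤳ x → FlatMor.fibreDimAt f ζ = (d : WithBot ℕ∞)) :
    ∃ D C : ℕ, FlatMor.fibreDimAt f x = (D : WithBot ℕ∞) ∧
      ringKrullDim (Y.presheaf.stalk (f x)) = (C : WithBot ℕ∞) ∧ d ≤ D ∧
      (D ≤ d ∨ D + 1 ≤ d + C) ∧
      ((∀ ζ, IsMaxPt ζ → ζ ⤳ x → f ζ ≠ f x) → D + 1 ≤ d + C) := by
  let e := Y.fromSpecStalk (f x)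
  let ι := pullback.fst f e
  let f' := pullback.snd f e
  haveI : IsLocallyNoetherian (Spec (Y.presheaf.stalk (f x))) := inferInstance
  haveI : LocallyOfFiniteType f' := MorphismProperty.pullback_snd (P := @LocallyOfFiniteType) _ _ inferInstance
  have hιr : Set.range ι = f ⁻¹' {w | w ⤳ f x} := by
    rw [Scheme.Pullback.range_fst, Scheme.range_fromSpecStalk]
  have hι : IsEmbedding ι := ι.isEmbedding
  have he : Function.Injective e := e.isEmbedding.injective
  have w : ∀ z, f (ι z) = e (f' z) := fun z => congr($(pullback.condition (f := f) (g := e)) z)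
  obtain ⟨x', hx'⟩ : x ∈ Set.range ι := by rw [hιr]; exact specializes_rfl
  have hgl : ∀ (ζ : X) (z : _), ζ ⤳ ι z → ι z ⤳ x → ζ ∈ Set.range ι := fun ζ z h1 h2 => by
    rw [hιr]; exact (h1.trans h2).map f.continuous
  have hdim : ∀ z, ι z ⤳ x → FlatMor.fibreDimAt f' z = FlatMor.fibreDimAt f (ι z) := fun z hz =>
    fibreDimAt_of_embedding f f' ι e hι he w z fun v hv => by
      rw [hιr]; exact (specializes_of_eq hv).trans (hz.map f.continuous)
  have hmax : ∀ ζ', IsMaxPt ζ' → ζ' ⤳ x' → IsMaxPt (ι ζ') ∧ ι ζ' ⤳ x := fun ζ' hζ' hζ'x => by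
    have hsx : ι ζ' ⤳ x := (hζ'x.map ι.continuous).trans (specializes_of_eq hx')
    refine ⟨fun v hv => ?_, hsx⟩
    obtain ⟨v', rfl⟩ := hgl v ζ' hv hsx
    rw [hζ' v' (hι.isInducing.specializes_iff.mp hv)]
  obtain ⟨D, C, hD, hC, h1, h2, h3⟩ := fibreDimAt_bounds f' x' d fun ζ' hζ' hζ'x => by
    rw [hdim ζ' (hmax ζ' hζ' hζ'x).2]
    exact hgen _ (hmax ζ' hζ' hζ'x).1 (hmax ζ' hζ' hζ'x).2
  have hpt : f' x' = IsLocalRing.closedPoint (Y.presheaf.stalk (f x)) := he (by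
    rw [← w, hx']; exact Scheme.fromSpecStalk_closedPoint.symm)
  refine ⟨D, C, ?_, ?_, h1, h2, fun hne => h3 fun ζ' hζ' hζ'x h => ?_⟩
  · rw [← hx', ← hdim x' (specializes_of_eq hx')]; exact hD
  · rw [← hC, hpt]
    exact ringKrullDim_eq_of_ringEquiv
      (stalkClosedPointIso (Y.presheaf.stalk (f x))).commRingCatIsoToRingEquiv.symm
  · exact hne _ (hmax ζ' hζ' hζ'x).1 (hmax ζ' hζ' hζ'x).2 (by rw [w, h, hpt]; exact Scheme.fromSpecStalk_closedPoint)

end Groth.Agent.DimFormula
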