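import Groth.Agent.EquidimPt.Cut
import Groth.Agent.Unibranch.Noether
import Mathlib.RingTheory.KrullDimension.NonZeroDivisors

/-!
# The dimension formula for affine domains over a field
-/

set_option autoImplicit false
universe u

open Groth.Agent

namespace Groth.Agent.DimFormula

variable {k F : Type u} [Field k] [CommRing F] [IsDomain F] [Algebra k F] [Algebra.FiniteType k F]

variable (k F) in
/-- An affine domain has dimension equal to its transcendence degree. -/
theorem exists_trdeg_eq_ringKrullDim :
    ∃ s : ℕ, Algebra.trdeg k F = s ∧ ringKrullDim F = s := by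
  obtain ⟨s, g, hgi, hgf⟩ := exists_finite_inj_algHom_of_fg k F
  refine ⟨s, ?_, Unibranch.ringKrullDim_eq_of_finite_inj g hgi hgf⟩
  let P := MvPolynomial (Fin s) k
  letI := g.toRingHom.toAlgebra
  haveI : Module.Finite P F := hgf
  haveI : IsScalarTower k P F := IsScalarTower.of_algebraMap_eq fun a ↦ (g.commutes a).symm
  haveI : FaithfulSMul P F := (faithfulSMul_iff_algebraMap_injective P F).mpr hgi
  haveI : Algebra.IsIntegral P F := Algebra.IsIntegral.of_finite _ _
  haveI : Algebra.IsAlgebraic P F := Algebra.IsIntegral.isAlgebraic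
  have h := trdeg_add_eq k P (A := F)
  rw [trdeg_eq_zero (R := P) (A := F), add_zero, MvPolynomial.trdeg_of_isDomain] at h
  simpa using h.symm

theorem coe_coheight (q : PrimeSpectrum F) :
    (Order.coheight q : WithBot ℕ∞) = ringKrullDim (F ⧸ q.asIdeal) := by
  rw [ringKrullDim_quotient, Order.coheight_eq_krullDim_Ici]
  congr

variable (k) in
include k in
/-- In an affine domain height and dimension of the quotient add up to the dimension. -/
theorem height_add_ringKrullDim_quotient (q : PrimeSpectrum F) :
    (q.asIdeal.height : WithBot ℕ∞) + ringKrullDim (F ⧸ q.asIdeal) = ringKrullDim F := by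
  rw [← coe_coheight, q.height_eq_orderHeight, ← WithBot.coe_add]
  obtain ⟨s, -, hs⟩ := exists_trdeg_eq_ringKrullDim k F
  haveI : IsNoetherianRing F := Algebra.FiniteType.isNoetherianRing k F
  rw [hs]
  have hle : ∀ a : PrimeSpectrum F, Order.height a + Order.coheight a ≤ (s : ℕ∞) := fun a => by
    rw [← WithBot.coe_le_coe]
    refine le_trans ?_ hs.le
    rw [ringKrullDim, Order.krullDim_eq_iSup_height_add_coheight_of_nonempty]
    exact WithBot.coe_le_coe.mpr (le_iSup (fun a : PrimeSpectrum F => Order.height a + Order.coheight a) a)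
  suffices h : ∀ (n : ℕ) (a : PrimeSpectrum F), Order.height a ≤ n →
      (s : ℕ∞) ≤ Order.height a + Order.coheight a by
    have hfin : Order.height q ≤ (s : ℕ∞) := le_self_add.trans (hle q)
    exact congrArg WithBot.some (le_antisymm (hle q) (h s q hfin))
  intro n
  induction n using Nat.strong_induction_on with
  | _ n ih =>
    intro a ha
    by_cases h0 : a = ⊥
    · subst h0
      refine le_add_left ?_
      rw [← WithBot.coe_le_coe]
      refine hs.ge.trans (iSup_le fun l => WithBot.coe_le_coe.mpr ?_)
      exact Order.length_le_coheight bot_le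
    · obtain ⟨b, hba, hb⟩ := (set_has_maximal_iff_noetherian.mpr ‹IsNoetherianRing F›)
        {J : Ideal F | J.IsPrime ∧ J < a.asIdeal} ⟨⊥, Ideal.isPrime_bot, bot_lt_iff_ne_bot.mpr fun e => h0 (PrimeSpectrum.ext e)⟩
      let b' : PrimeSpectrum F := ⟨b, hba.1⟩
      have hlt : b' < a := hba.2
      have hfin : Order.height b' < ⊤ := (le_self_add.trans (hle b')).trans_lt (ENat.natCast_lt_top s)
      have hh : Order.height b' + 1 ≤ Order.height a := Order.height_add_one_le hlt
      obtain ⟨m, hm⟩ := ENat.ne_top_iff_exists.mp hfin.ne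
      obtain ⟨c, hc⟩ := ENat.ne_top_iff_exists.mp
        ((le_add_self.trans (hle b')).trans_lt (ENat.natCast_lt_top s)).ne
      have hmn : m < n := by
        have := hh.trans ha
        rw [← hm] at this
        exact_mod_cast this
      have h1 := ih m hmn b' hm.ge
      rw [← hm, ← hc] at h1
      refine le_trans ?_ (add_le_add hh le_rfl)
      rw [← hm]
      refine h1.trans ?_
      rcases Nat.eq_zero_or_pos c with rfl | hcpos
      · exact le_add_right le_self_add
      obtain ⟨n', rfl⟩ : ∃ n', c = n' + 1 := ⟨c - 1, by omega⟩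
      obtain ⟨l, hl, hlen⟩ := Order.exists_series_of_le_coheight b' hc.le
      obtain ⟨l', hl', hlen'⟩ := EquidimPt.exists_ltSeries_of_covered (k := k) b' a hlt
        (fun r h1 h2 => by
          by_contra! hcon
          exact hb r.asIdeal ⟨r.2, lt_of_le_of_ne h2 fun e => hcon.2 (PrimeSpectrum.ext e)⟩
            (lt_of_le_of_ne h1 fun e => hcon.1 (PrimeSpectrum.ext e.symm)))
        l hl.ge n' (by omega)
      have h2 : (n' : ℕ∞) ≤ Order.coheight a := hlen' ▸ Order.length_le_coheight hl'
      push_cast
      rw [add_comm (n' : ℕ∞) 1, ← add_assoc]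
      exact add_le_add le_rfl h2

variable (k) in
/-- In an affine domain the height of a prime and the transcendence degree of the quotient add up to
the transcendence degree. -/
theorem exists_height_add_trdeg (q : Ideal F) [q.IsPrime] :
    ∃ h t s : ℕ, q.height = h ∧ Algebra.trdeg k (F ⧸ q) = t ∧ Algebra.trdeg k F = s ∧ h + t = s := by
  obtain ⟨s, hs, hs'⟩ := exists_trdeg_eq_ringKrullDim k F
  obtain ⟨t, ht, ht'⟩ := exists_trdeg_eq_ringKrullDim k (F ⧸ q)
  have h := height_add_ringKrullDim_quotient k ⟨q, ‹_›⟩
  rw [ht', hs', ← WithBot.coe_natCast, ← WithBot.coe_natCast, ← WithBot.coe_add, WithBot.coe_inj] at h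
  obtain ⟨a, ha⟩ := ENat.ne_top_iff_exists.mp
    ((le_self_add.trans h.le).trans_lt (ENat.natCast_lt_top s)).ne
  refine ⟨a, t, s, ha.symm, ht, hs, ?_⟩
  rw [← ha] at h
  exact_mod_cast h

end Groth.Agent.DimFormula
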