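import Groth.Agent.DimFormula.Rel
import Groth.Agent.EquidimPt.Height

/-!
# The dimension inequality on schemes, in chains of specialisations
-/

set_option autoImplicit false
set_option linter.style.haveILetI false
universe u

open CategoryTheory AlgebraicGeometry Topology TopologicalSpace
open Groth.Agent Groth.Agent.Unibranch Groth.Agent.EquidimPt

namespace Groth.Agent.DimFormula

variable {X Y : Scheme.{u}}

/-- All chains of specialisations from below `ζ` to `x` have length at most `k`. -/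
def GenLE (ζ x : X) (k : ℕ) : Prop :=
  ∀ (n : ℕ) (c : Fin (n + 1) → X), IsChain' c → ζ ⤳ c 0 → c (Fin.last n) = x → n ≤ k

/-- There is a chain of specialisations of length `k` from below `ζ` to `x`. -/
def HasGen (ζ x : X) (k : ℕ) : Prop :=
  ∃ c : Fin (k + 1) → X, IsChain' c ∧ ζ ⤳ c 0 ∧ c (Fin.last k) = x

theorem specializes_last {k : ℕ} {c : Fin (k + 1) → X} (hc : IsChain' c) (i : Fin (k + 1)) :
    c i ⤳ c (Fin.last k) := by
  induction i using Fin.reverseInduction with
  | last => exact specializes_rfl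
  | cast i hi => exact (hc i).1.trans hi

theorem GenLE.mono {ζ x : X} {k l : ℕ} (h : GenLE ζ x k) (hkl : k ≤ l) : GenLE ζ x l :=
  fun n c h1 h2 h3 => (h n c h1 h2 h3).trans hkl

theorem genLE_self (x : X) : GenLE x x 0 := fun n c hc h0 hlast => by
  rcases n with _ | n
  · exact le_rfl
  have h1 : x ⤳ c (Fin.castSucc 0) := h0
  have h2 : c (Fin.succ 0) ⤳ x := hlast ▸ specializes_last hc _
  exact absurd (((hc 0).1).antisymm (h2.trans h1)).eq (hc 0).2

theorem GenLE.le_of_hasGen {ζ x : X} {k l : ℕ} (h : GenLE ζ x l) (h' : HasGen ζ x k) : k ≤ l := by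
  obtain ⟨c, h1, h2, h3⟩ := h'
  exact h k c h1 h2 h3

theorem hasGen_zero {ζ x : X} (h : ζ ⤳ x) : HasGen ζ x 0 := ⟨fun _ => x, fun i => i.elim0, h, rfl⟩

theorem GenLE.congr_left {ζ ζ' x : X} {k : ℕ} (h : GenLE ζ x k) (h' : ζ ⤳ ζ') : GenLE ζ' x k :=
  fun n c h1 h2 h3 => h n c h1 (h'.trans h2) h3

/-- The dimension of a local ring bounds all chains of generisations, and conversely. -/
theorem ringKrullDim_stalk_le_iff (x : X) {k : ℕ} :
    ringKrullDim (X.presheaf.stalk x) ≤ (k : WithBot ℕ∞) ↔ GenChainsLE x k := by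
  refine ⟨genChainsLE_of_ringKrullDim_le x, fun h => ?_⟩
  refine iSup_le fun l => ?_
  have hcl : X.fromSpecStalk x (IsLocalRing.closedPoint _) = x := Scheme.fromSpecStalk_closedPoint
  suffices l.length ≤ k from WithBot.coe_le_coe.mpr (ENat.natCast_le_natCast.mpr this)
  have hkey : ∀ (m : LTSeries (PrimeSpectrum (X.presheaf.stalk x))),
      m.last = IsLocalRing.closedPoint _ → m.length ≤ k := fun m hm =>
    h m.length (fun i => X.fromSpecStalk x (m i))
      (fun i => ⟨(fromSpecStalk_le_iff x _ _).mp (m.step i).le, fun e =>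
        (show m i.castSucc < m i.succ from m.step i).ne ((X.fromSpecStalk x).isEmbedding.injective e)⟩)
      (by rw [show m (Fin.last _) = IsLocalRing.closedPoint _ from hm, hcl])
  by_cases hl : l.last = IsLocalRing.closedPoint _
  · exact hkey l hl
  · have hlt : l.last < IsLocalRing.closedPoint _ :=
      lt_of_le_of_ne (IsLocalRing.le_maximalIdeal l.last.2.ne_top) hl
    exact (Nat.le_succ _).trans ((le_of_eq (RelSeries.snoc_length _ _ hlt).symm).trans
      (hkey (l.snoc _ hlt) (RelSeries.last_snoc _ _ _)))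

theorem exists_genChainsLE [IsLocallyNoetherian X] (x : X) : ∃ k, GenChainsLE x k := by
  obtain ⟨k, hk⟩ := ENat.ne_top_iff_exists.mp
    (Ideal.height_ne_top_of_isPrime (I := IsLocalRing.maximalIdeal (X.presheaf.stalk x)))
  refine ⟨k, (ringKrullDim_stalk_le_iff x).mp ?_⟩
  rw [← IsLocalRing.maximalIdeal_height_eq_ringKrullDim, ← hk]
  exact le_rfl

theorem exists_genLE [IsLocallyNoetherian X] (ζ x : X) : ∃ k, GenLE ζ x k := by
  obtain ⟨k, hk⟩ := exists_genChainsLE x
  exact ⟨k, fun n c h1 _ h3 => hk n c h1 h3⟩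

/-- The largest length of chains between two points. -/
theorem exists_genLE_hasGen [IsLocallyNoetherian X] {ζ x : X} (h : ζ ⤳ x) :
    ∃ k, GenLE ζ x k ∧ HasGen ζ x k := by
  classical
  obtain ⟨K, hK⟩ := exists_genLE ζ x
  refine ⟨Nat.findGreatest (HasGen ζ x) K, fun n c h1 h2 h3 =>
    Nat.le_findGreatest (hK n c h1 h2 h3) ⟨c, h1, h2, h3⟩, ?_⟩
  exact Nat.findGreatest_spec (P := HasGen ζ x) (Nat.zero_le K) (hasGen_zero h)

/-- A point between `ζ` and `x` covering `x`. -/
theorem exists_covered_between [IsLocallyNoetherian X] {ζ x : X} (h : ζ ⤳ x) (hne : ζ ≠ x) :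
    ∃ w, ζ ⤳ w ∧ w ⤳ x ∧ w ≠ x ∧ ∀ z, w ⤳ z → z ⤳ x → z = w ∨ z = x := by
  obtain ⟨a, ha⟩ := exists_fromSpecStalk_eq h
  have hcl : X.fromSpecStalk x (IsLocalRing.closedPoint _) = x := Scheme.fromSpecStalk_closedPoint
  obtain ⟨J, ⟨hJ, haJ, hJm⟩, hmax⟩ := set_has_maximal_iff_noetherian.mpr
    (inferInstance : IsNoetherianRing (X.presheaf.stalk x))
    {J : Ideal (X.presheaf.stalk x) | J.IsPrime ∧ a.asIdeal ≤ J ∧ J ≠ IsLocalRing.maximalIdeal _}
    ⟨a.asIdeal, a.2, le_rfl, fun e => hne (by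
      rw [← ha, show a = IsLocalRing.closedPoint _ from PrimeSpectrum.ext e, hcl])⟩
  refine ⟨X.fromSpecStalk x ⟨J, hJ⟩, ha ▸ (fromSpecStalk_le_iff x _ _).mp haJ, ?_, fun e => hJm ?_,
    fun v hwv hvξ => ?_⟩
  · exact ((fromSpecStalk_le_iff x _ _).mp (show (⟨J, hJ⟩ : PrimeSpectrum _) ≤ IsLocalRing.closedPoint _ from
      IsLocalRing.le_maximalIdeal hJ.ne_top)).trans (specializes_of_eq hcl)
  · exact congrArg PrimeSpectrum.asIdeal ((X.fromSpecStalk x).isEmbedding.injective (e.trans hcl.symm))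
  · obtain ⟨b, hb⟩ := exists_fromSpecStalk_eq hvξ
    by_cases hbm : b.asIdeal = IsLocalRing.maximalIdeal _
    · exact Or.inr (by rw [← hb, show b = IsLocalRing.closedPoint _ from PrimeSpectrum.ext hbm, hcl])
    · refine Or.inl ?_
      have hle : J ≤ b.asIdeal := (fromSpecStalk_le_iff x ⟨J, hJ⟩ b).mpr (by rw [hb]; exact hwv)
      have : J = b.asIdeal := by
        by_contra hne'
        exact hmax b.asIdeal ⟨b.2, haJ.trans hle, hbm⟩ (lt_of_le_of_ne hle hne')
      rw [← hb]
      exact congrArg (X.fromSpecStalk x) (PrimeSpectrum.ext this.symm)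

/-- The fibre dimension of a closure drops at most by the length of the chains between. -/
theorem hasChain_sub_of_genLE [IsLocallyNoetherian X] (f : X ⟶ Y) [LocallyOfFiniteType f] {ζ : X}
    {e : ℕ} (hζ : HasChain f (closure {ζ}) (f ζ) e) :
    ∀ (a : ℕ) {x : X}, ζ ⤳ x → GenLE ζ x a → HasChain f (closure {x}) (f x) (e - a) := by
  intro a
  induction a with
  | zero =>
    intro x hx ha
    by_cases hne : ζ = x
    · subst hne; exact hζ
    · obtain ⟨w, hζw, hwx, hwne, -⟩ := exists_covered_between hx hne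
      exact absurd (ha 1 ![w, x] (fun i => by fin_cases i; exact ⟨hwx, hwne⟩) hζw rfl) (by omega)
  | succ a ih =>
    intro x hx ha
    by_cases hne : ζ = x
    · subst hne; exact hζ.anti (Nat.sub_le _ _)
    obtain ⟨w, hζw, hwx, hwne, hcov⟩ := exists_covered_between hx hne
    have hwa : GenLE ζ w a := fun n c hc h0 hlast => by
      have := ha (n + 1) (Fin.snoc c x) (fun i => by
        refine Fin.lastCases ?_ (fun j => ?_) i
        · simp only [Fin.succ_last, Fin.snoc_last, Fin.snoc_castSucc, hlast]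
          exact ⟨hwx, hwne⟩
        · simp only [← Fin.castSucc_succ, Fin.snoc_castSucc]
          exact hc j) (by rw [← Fin.castSucc_zero, Fin.snoc_castSucc]; exact h0) (Fin.snoc_last _ _)
      omega
    have h1 := ih hζw hwa
    by_cases he : e - a = 0
    · refine HasChain.anti ⟨fun _ => x, fun i => ⟨subset_closure rfl, rfl⟩, fun i => i.elim0⟩ ?_
      omega
    obtain ⟨n, hn⟩ : ∃ n, e - a = n + 1 := ⟨e - a - 1, by omega⟩
    rw [hn] at h1
    rw [show e - (a + 1) = n by omega]
    exact (hasChain_step f hwx hwne hcov h1).1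

/-- **The dimension inequality.** -/
theorem dimension_inequality [IsLocallyNoetherian Y] (f : X ⟶ Y) [LocallyOfFiniteType f] {ζ x : X}
    (hζx : ζ ⤳ x) {a c d e : ℕ} (ha : HasGen ζ x a) (hc : GenLE (f ζ) (f x) c)
    (hd : HasChain f (closure {x}) (f x) d) (he : ChainsLE f (closure {ζ}) (f ζ) e) :
    a + d ≤ c + e := by
  obtain ⟨V, W, hV, hW, hxW, hWV, -⟩ := exists_chart_le f (U := ⊤) (x := x) trivial
  let := (f.appLE V W hWV).hom.toAlgebra
  have : Algebra.FiniteType Γ(Y, V) Γ(X, W) := f.finiteType_appLE hV hW hWV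
  haveI : IsNoetherianRing Γ(Y, V) := IsLocallyNoetherian.component_noetherian ⟨V, hV⟩
  have hζW : ζ ∈ W := hζx.mem_open W.2 hxW
  let q := hW.primeIdealOf ⟨ζ, hζW⟩
  let m := hW.primeIdealOf ⟨x, hxW⟩
  have hqm : q.asIdeal ≤ m.asIdeal := (primeIdealOf_le_iff hW hζW hxW).mpr hζx
  obtain ⟨a', c', ha', hc', hineq⟩ :=
    exists_rel_dimension_inequality (A := Γ(Y, V)) q.asIdeal m.asIdeal hqm
  have h1 : d ≤ Unibranch.rdim Γ(Y, V) m.asIdeal :=
    hd.le (chainsLE_of_specializes f specializes_rfl hxW (chainsLE_rdimIn hV hW hWV hxW))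
  have h2 : Unibranch.rdim Γ(Y, V) q.asIdeal ≤ e :=
    ((hasChain_rdimIn hV hW hWV hζW).mono Set.inter_subset_right).le he
  have h3 : a ≤ a' := by
    obtain ⟨g, hg, hg0, hgl⟩ := ha
    have hmem : ∀ i, g i ∈ W := fun i => (hgl ▸ specializes_last hg i).mem_open W.2 hxW
    have := natCast_le_height_quotient q m
      ⟨a, fun i => hW.primeIdealOf ⟨g i, hmem i⟩, fun i => by
        refine lt_of_le_of_ne ((primeIdealOf_le_iff hW _ _).mpr (hg i).1) fun h ↦ (hg i).2 ?_
        have h1 := congrArg hW.fromSpec (PrimeSpectrum.ext h)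
        exact (hW.fromSpec_primeIdealOf ⟨g _, hmem _⟩).symm.trans
          (h1.trans (hW.fromSpec_primeIdealOf ⟨g _, hmem _⟩))⟩
      ((primeIdealOf_le_iff hW hζW (hmem 0)).mpr hg0)
      ((primeIdealOf_le_iff hW (hmem _) hxW).mpr (specializes_of_eq hgl))
    rw [ha'] at this
    exact_mod_cast this
  have h4 : c' ≤ c := by
    let p := q.asIdeal.under Γ(Y, V)
    let P := m.asIdeal.under Γ(Y, V)
    have hpP : p ≤ P := Ideal.comap_mono hqm
    haveI : (P.map (Ideal.Quotient.mk p)).IsPrime := Ideal.map_isPrime_of_surjective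
      Ideal.Quotient.mk_surjective (by rw [Ideal.mk_ker]; exact hpP)
    obtain ⟨l, hl, hlen⟩ := (P.map (Ideal.Quotient.mk p)).exists_ltSeries_length_eq_height
    let j := fun Q : PrimeSpectrum (Γ(Y, V) ⧸ p) => hV.fromSpec (PrimeSpectrum.comap (Ideal.Quotient.mk p) Q)
    have hmono := RingHom.strictMono_comap_of_surjective (Ideal.Quotient.mk_surjective (I := p))
    have hfq : hV.fromSpec (PrimeSpectrum.comap (algebraMap Γ(Y, V) Γ(X, W)) q) = f ζ := by
      rw [RingHom.algebraMap_toAlgebra, fromSpec_comap_appLE f hV hW hWV, hW.fromSpec_primeIdealOf]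
    have hfm : hV.fromSpec (PrimeSpectrum.comap (algebraMap Γ(Y, V) Γ(X, W)) m) = f x := by
      rw [RingHom.algebraMap_toAlgebra, fromSpec_comap_appLE f hV hW hWV, hW.fromSpec_primeIdealOf]
    rw [hc'] at hlen
    have hlen' : l.length = c' := by exact_mod_cast hlen
    rw [← hlen']
    refine hc l.length (fun i => j (l i)) (fun i => ⟨?_, fun h => ?_⟩) ?_ ?_
    · exact ((PrimeSpectrum.le_iff_specializes _ _).mp (hmono.monotone (l.step i).le)).map hV.fromSpec.continuous
    · exact (show l i.castSucc < l i.succ from l.step i).ne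
        (PrimeSpectrum.comap_injective_of_surjective _ Ideal.Quotient.mk_surjective
          (hV.fromSpec.isOpenEmbedding.injective h))
    · rw [← hfq]
      refine ((PrimeSpectrum.le_iff_specializes _ _).mp ?_).map hV.fromSpec.continuous
      intro r hr
      rw [PrimeSpectrum.comap_asIdeal, Ideal.mem_comap]
      rw [show Ideal.Quotient.mk p r = 0 from Ideal.Quotient.eq_zero_iff_mem.mpr hr]
      exact Ideal.zero_mem _
    · rw [← hfm]
      refine congrArg hV.fromSpec (PrimeSpectrum.ext ?_)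
      show (l.last.asIdeal).comap (Ideal.Quotient.mk p) = P
      rw [hl]
      show (P.map (Ideal.Quotient.mk p)).comap (Ideal.Quotient.mk p) = P
      rw [Ideal.comap_map_of_surjective _ Ideal.Quotient.mk_surjective, ← RingHom.ker_eq_comap_bot,
        Ideal.mk_ker, sup_eq_left.mpr hpP]
  omega

end Groth.Agent.DimFormula
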