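import Groth.Agent.DimFormula.ResTrdeg
import Groth.Prelude.Def_EGA4b

/-!
# Equidimensional local rings of schemes, in chains
-/

set_option autoImplicit false
set_option linter.style.haveILetI false
universe u

open CategoryTheory AlgebraicGeometry Topology TopologicalSpace
open Groth.Agent Groth.Agent.Unibranch Groth.Agent.EquidimPt

namespace Groth.Agent.DimFormula

variable {X Y : Scheme.{u}}

/-- A chain of specialisations between two points gives a bound below for the dimension of the quotient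
of the local ring by the prime of the first. -/
theorem natCast_le_ringKrullDim_quotient_iff (x : X) (a : PrimeSpectrum (X.presheaf.stalk x)) {k : ℕ} :
    (k : WithBot ℕ∞) ≤ ringKrullDim (X.presheaf.stalk x ⧸ a.asIdeal) ↔
      ∃ n, k ≤ n ∧ HasGen (X.fromSpecStalk x a) x n := by
  have hcl : X.fromSpecStalk x (IsLocalRing.closedPoint _) = x := Scheme.fromSpecStalk_closedPoint
  have hsp := fromSpecStalk_le_iff x
  constructor
  · intro h
    obtain ⟨l, rfl⟩ := Order.le_krullDim_iff.mp h
    let l' := l.map _ (RingHom.strictMono_comap_of_surjective (Ideal.Quotient.mk_surjective (I := a.asIdeal)))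
    have hhead : a ≤ l'.head := fun r hr => by
      rw [LTSeries.head_map, PrimeSpectrum.comap_asIdeal, Ideal.mem_comap,
        Ideal.Quotient.eq_zero_iff_mem.mpr hr]
      exact Ideal.zero_mem _
    have key : ∀ (m : LTSeries (PrimeSpectrum (X.presheaf.stalk x))), a ≤ m.head →
        m.last = IsLocalRing.closedPoint _ → HasGen (X.fromSpecStalk x a) x m.length := fun m hm0 hm =>
      ⟨fun i => X.fromSpecStalk x (m i), fun i => ⟨(hsp _ _).mp (m.step i).le, fun e =>
        (show m i.castSucc < m i.succ from m.step i).ne ((X.fromSpecStalk x).isEmbedding.injective e)⟩,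
        (hsp _ _).mp hm0, (congrArg (X.fromSpecStalk x) hm).trans hcl⟩
    by_cases hl : l'.last = IsLocalRing.closedPoint _
    · exact ⟨_, le_rfl, key l' hhead hl⟩
    · have hlt : l'.last < IsLocalRing.closedPoint _ :=
        lt_of_le_of_ne (IsLocalRing.le_maximalIdeal l'.last.2.ne_top) hl
      refine ⟨_, ?_, key (l'.snoc _ hlt) (by rwa [RelSeries.head_snoc]) (RelSeries.last_snoc _ _ _)⟩
      simp [l']
  · rintro ⟨n, hkn, c, h1, h2, h3⟩
    choose b hb using fun i => exists_fromSpecStalk_eq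
      (show c i ⤳ x from h3 ▸ specializes_last h1 i)
    let l : LTSeries (PrimeSpectrum (X.presheaf.stalk x)) :=
      ⟨n, b, fun i => lt_of_le_of_ne ((hsp _ _).mpr (by rw [hb, hb]; exact (h1 i).1))
        fun e => (h1 i).2 (by rw [← hb, ← hb, e])⟩
    have hhead : a ≤ l.head := (hsp _ _).mpr (by show _ ⤳ X.fromSpecStalk x (b 0); rw [hb]; exact h2)
    have hlast : l.last ≤ IsLocalRing.closedPoint _ := IsLocalRing.le_maximalIdeal l.last.2.ne_top
    have h := natCast_le_height_quotient a _ l hhead hlast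
    haveI : ((IsLocalRing.closedPoint (X.presheaf.stalk x)).asIdeal.map (Ideal.Quotient.mk a.asIdeal)).IsPrime :=
      Ideal.map_isPrime_of_surjective Ideal.Quotient.mk_surjective
        (by rw [Ideal.mk_ker]; exact IsLocalRing.le_maximalIdeal a.2.ne_top)
    refine le_trans ?_ (Ideal.height_le_ringKrullDim_of_isPrime
      (I := (IsLocalRing.closedPoint (X.presheaf.stalk x)).asIdeal.map (Ideal.Quotient.mk a.asIdeal)))
    exact WithBot.coe_le_coe.mpr (le_trans (by exact_mod_cast hkn) h)

theorem isMaxPt_fromSpecStalk (x : X) (a : PrimeSpectrum (X.presheaf.stalk x)) :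
    IsMaxPt (X.fromSpecStalk x a) ↔ a.asIdeal ∈ minimalPrimes (X.presheaf.stalk x) := by
  have hsp := fromSpecStalk_le_iff x
  constructor
  · refine fun h => ⟨⟨a.2, bot_le⟩, fun J hJ hJa => ?_⟩
    have hle : (⟨J, hJ.1⟩ : PrimeSpectrum (X.presheaf.stalk x)) ≤ a := hJa
    have := (X.fromSpecStalk x).isEmbedding.injective (h _ ((hsp _ _).mp hle))
    exact (congrArg PrimeSpectrum.asIdeal this).ge
  · intro h z hz
    obtain ⟨b, rfl⟩ := exists_fromSpecStalk_eq (hz.trans (show X.fromSpecStalk x a ⤳ x by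
      have : X.fromSpecStalk x a ∈ Set.range (X.fromSpecStalk x) := ⟨a, rfl⟩
      rwa [Scheme.range_fromSpecStalk] at this))
    have hle := (hsp b a).mpr hz
    exact congrArg (X.fromSpecStalk x) (PrimeSpectrum.ext (le_antisymm (show b.asIdeal ≤ a.asIdeal from hle) (h.2 ⟨b.2, bot_le⟩ hle)))

theorem HasGen.anti {ζ x : X} {k n : ℕ} (h : HasGen ζ x n) (hkn : k ≤ n) : HasGen ζ x k := by
  obtain ⟨c, h1, h2, h3⟩ := h
  let j : Fin (k + 1) → Fin (n + 1) := fun i => ⟨n - k + i, by omega⟩
  refine ⟨c ∘ j, fun i => ?_, h2.trans (Unibranch.specializes_of_chain c h1 _), ?_⟩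
  · let i' : Fin n := ⟨n - k + i, by omega⟩
    have e1 : j i.castSucc = i'.castSucc := Fin.ext rfl
    have e2 : j i.succ = i'.succ := Fin.ext (by simp [j, i']; omega)
    show c (j i.castSucc) ⤳ c (j i.succ) ∧ c (j i.castSucc) ≠ c (j i.succ)
    rw [e1, e2]
    exact h1 i'
  · show c (j (Fin.last k)) = x
    rw [← h3]
    congr 1
    ext
    simp [j]
    omega

/-- **Equidimensionality of a local ring**: every component through the point reaches the dimension. -/
theorem isEquidim_stalk_iff [IsLocallyNoetherian X] (x : X) {A : ℕ}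
    (hA : ringKrullDim (X.presheaf.stalk x) = (A : WithBot ℕ∞)) :
    EGA4.IsEquidim (X.presheaf.stalk x) ↔ ∀ ζ, IsMaxPt ζ → ζ ⤳ x → HasGen ζ x A := by
  obtain ⟨hle, -⟩ := (ringKrullDim_stalk_eq_iff x).mp hA
  constructor
  · intro h ζ hζ hζx
    obtain ⟨a, rfl⟩ := exists_fromSpecStalk_eq hζx
    obtain ⟨n, hn, hn'⟩ := (natCast_le_ringKrullDim_quotient_iff x a (k := A)).mp
      (by rw [h _ ((isMaxPt_fromSpecStalk x a).mp hζ), hA])
    exact hn'.anti hn
  · intro h p hp
    have hmin := (isMaxPt_fromSpecStalk x ⟨p, hp.1.1⟩).mpr hp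
    refine le_antisymm (ringKrullDim_le_of_surjective _ Ideal.Quotient.mk_surjective) ?_
    rw [hA]
    refine (natCast_le_ringKrullDim_quotient_iff x ⟨p, hp.1.1⟩).mpr ⟨A, le_rfl, h _ hmin ?_⟩
    have : X.fromSpecStalk x ⟨p, hp.1.1⟩ ∈ Set.range (X.fromSpecStalk x) := ⟨_, rfl⟩
    rwa [Scheme.range_fromSpecStalk] at this

end Groth.Agent.DimFormula
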