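import Groth.Agent.DimFormula.Ineq
import Groth.Agent.Unibranch.TrDeg

/-!
# The dimension inequality between two primes of a finite type algebra
-/

set_option autoImplicit false
set_option linter.style.haveILetI false
universe u

open Groth.Agent

namespace Groth.Agent.DimFormula

/-- Chains of primes above `a` that end below `b` give the height of `b` in the quotient by `a`. -/
theorem natCast_le_height_quotient {B : Type u} [CommRing B] (a b : PrimeSpectrum B)
    (l : LTSeries (PrimeSpectrum B)) (hhead : a ≤ l.head) (hlast : l.last ≤ b) :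
    (l.length : ℕ∞) ≤ (b.asIdeal.map (Ideal.Quotient.mk a.asIdeal)).height := by
  let π := Ideal.Quotient.mk a.asIdeal
  have hker : ∀ i, RingHom.ker π ≤ (l i).asIdeal := fun i => by
    rw [Ideal.mk_ker]
    exact hhead.trans (l.monotone (Fin.zero_le i))
  have hcm : ∀ i, ((l i).asIdeal.map π).comap π = (l i).asIdeal := fun i => by
    rw [Ideal.comap_map_of_surjective _ Ideal.Quotient.mk_surjective, ← RingHom.ker_eq_comap_bot,
      sup_eq_left.mpr (hker i)]
  let l' : LTSeries (PrimeSpectrum (B ⧸ a.asIdeal)) :=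
    ⟨l.length, fun i => ⟨(l i).asIdeal.map π,
      Ideal.map_isPrime_of_surjective Ideal.Quotient.mk_surjective (hker i)⟩, fun i => by
      refine lt_of_le_of_ne (Ideal.map_mono (l.step i).le) fun e => (show l i.castSucc < l i.succ from l.step i).ne (PrimeSpectrum.ext ?_)
      rw [← hcm i.castSucc, ← hcm i.succ]
      exact congrArg (fun P : Ideal (B ⧸ a.asIdeal) => P.comap π) e⟩
  haveI : (b.asIdeal.map π).IsPrime := Ideal.map_isPrime_of_surjective Ideal.Quotient.mk_surjective
    (by
      rw [Ideal.mk_ker]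
      exact (hhead.trans (l.monotone (Fin.zero_le (Fin.last _)))).trans hlast)
  rw [(⟨b.asIdeal.map π, inferInstance⟩ : PrimeSpectrum (B ⧸ a.asIdeal)).height_eq_orderHeight]
  exact Order.length_le_height (p := l') (Ideal.map_mono hlast)

/-- **The dimension inequality** between two primes `q ≤ m` of a finite type algebra. -/
theorem exists_rel_dimension_inequality {A B : Type u} [CommRing A] [IsNoetherianRing A] [CommRing B]
    [Algebra A B] [Algebra.FiniteType A B] (q m : Ideal B) [q.IsPrime] [m.IsPrime] (hqm : q ≤ m) :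
    ∃ a c : ℕ, (m.map (Ideal.Quotient.mk q)).height = a ∧
      ((m.under A).map (Ideal.Quotient.mk (q.under A))).height = c ∧
      a + Unibranch.rdim A m ≤ c + Unibranch.rdim A q := by
  haveI : IsNoetherianRing B := Algebra.FiniteType.isNoetherianRing A B
  obtain ⟨n, φ, hφ⟩ := Algebra.FiniteType.iff_quotient_mvPolynomial''.mp ‹Algebra.FiniteType A B›
  have key : ∀ (I : Ideal B) [I.IsPrime], ∃ (ψ : MvPolynomial (Fin n) (A ⧸ I.under A) →ₐ[A ⧸ I.under A] B ⧸ I) (h : ℕ),
      Function.Surjective ψ ∧ (RingHom.ker ψ.toRingHom).height = h ∧ h + Unibranch.rdim A I = n ∧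
      ∀ b, ψ (MvPolynomial.map (Ideal.Quotient.mk (I.under A)) b) = Ideal.Quotient.mk I (φ b) := by
    intro I _
    let ψ : MvPolynomial (Fin n) (A ⧸ I.under A) →ₐ[A ⧸ I.under A] B ⧸ I :=
      MvPolynomial.aeval fun i => Ideal.Quotient.mk I (φ (MvPolynomial.X i))
    let π : MvPolynomial (Fin n) A →+* MvPolynomial (Fin n) (A ⧸ I.under A) :=
      MvPolynomial.map (Ideal.Quotient.mk (I.under A))
    have hπψ : ∀ b, ψ (π b) = Ideal.Quotient.mk I (φ b) := fun b => by
      refine RingHom.congr_fun (f := ψ.toRingHom.comp π) (g := (Ideal.Quotient.mk I).comp φ.toRingHom)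
        (MvPolynomial.ringHom_ext (fun r => ?_) fun i => ?_) b
      · show ψ (π (MvPolynomial.C r)) = Ideal.Quotient.mk I (φ (algebraMap A _ r))
        rw [MvPolynomial.map_C, MvPolynomial.aeval_C, φ.commutes]
        rfl
      · show ψ (π (MvPolynomial.X i)) = _
        rw [MvPolynomial.map_X, MvPolynomial.aeval_X]
        rfl
    have hψ : Function.Surjective ψ := fun z => by
      obtain ⟨z, rfl⟩ := Ideal.Quotient.mk_surjective z
      obtain ⟨b, rfl⟩ := hφ z
      exact ⟨π b, hπψ b⟩
    haveI : FaithfulSMul (A ⧸ I.under A) (B ⧸ I) := (faithfulSMul_iff_algebraMap_injective _ _).mpr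
      (Unibranch.algebraMap_injective_quotient_under I)
    obtain ⟨h, t, hh, ht, hsum⟩ := exists_height_ker ψ hψ
    refine ⟨ψ, h, hψ, hh, ?_, hπψ⟩
    have := Unibranch.natCast_rdim (A := A) I
    rw [ht, Nat.cast_inj] at this
    omega
  obtain ⟨ψq, h₀, -, hh₀, hsum₀, hψq⟩ := key q
  obtain ⟨ψm, h₁, -, hh₁, hsum₁, hψm⟩ := key m
  let p := q.under A
  let P := m.under A
  have hpP : p ≤ P := Ideal.comap_mono hqm
  -- everything happens in `(A ⧸ p)[X]`
  let π : MvPolynomial (Fin n) A →+* MvPolynomial (Fin n) (A ⧸ p) := MvPolynomial.map (Ideal.Quotient.mk p)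
  have hπ : Function.Surjective π := MvPolynomial.map_surjective _ Ideal.Quotient.mk_surjective
  let σ : MvPolynomial (Fin n) (A ⧸ p) →+* MvPolynomial (Fin n) (A ⧸ P) :=
    MvPolynomial.map (Ideal.Quotient.factor hpP)
  have hσ : Function.Surjective σ := MvPolynomial.map_surjective _ (Ideal.Quotient.factor_surjective hpP)
  have hσπ : ∀ b, σ (π b) = MvPolynomial.map (Ideal.Quotient.mk P) b := fun b => by
    show MvPolynomial.map _ (MvPolynomial.map _ b) = _
    rw [MvPolynomial.map_map, Ideal.Quotient.factor_comp_mk]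
  let κ : MvPolynomial (Fin n) (A ⧸ p) →+* B ⧸ m := ψm.toRingHom.comp σ
  let Q : Ideal (MvPolynomial (Fin n) (A ⧸ p)) := RingHom.ker κ
  haveI : Q.IsPrime := RingHom.ker_isPrime _
  let Pb : Ideal (A ⧸ p) := P.map (Ideal.Quotient.mk p)
  haveI hPb : Pb.IsPrime := Ideal.map_isPrime_of_surjective Ideal.Quotient.mk_surjective
    (by rw [Ideal.mk_ker]; exact hpP)
  have hkerf : RingHom.ker (Ideal.Quotient.factor hpP) = Pb := by
    rw [Ideal.Quotient.factor_ker]
  haveI : Q.LiesOver Pb := ⟨by
    rw [← hkerf]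
    ext r
    show Ideal.Quotient.factor hpP r = 0 ↔ ψm (σ (MvPolynomial.C r)) = 0
    rw [MvPolynomial.map_C, ← MvPolynomial.algebraMap_eq, ψm.commutes, map_eq_zero_iff _
      (Unibranch.algebraMap_injective_quotient_under m)]⟩
  let I : Ideal (MvPolynomial (Fin n) (A ⧸ p)) := Pb.map (algebraMap _ (MvPolynomial (Fin n) (A ⧸ p)))
  have hker : RingHom.ker σ = I := by
    rw [MvPolynomial.ker_map, hkerf]
    rfl
  let e : (MvPolynomial (Fin n) (A ⧸ p) ⧸ I) ≃+* MvPolynomial (Fin n) (A ⧸ P) :=
    (Ideal.quotEquivOfEq hker.symm).trans (RingHom.quotientKerEquivOfSurjective hσ)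
  have he : (Q.map (Ideal.Quotient.mk I)).map e = RingHom.ker ψm.toRingHom := by
    rw [show (Q.map (Ideal.Quotient.mk I)).map e = Q.map σ from by
      rw [← Ideal.map_coe e, Ideal.map_map]
      congr 1]
    refine le_antisymm (Ideal.map_le_iff_le_comap.mpr fun b hb => hb) fun z hz => ?_
    obtain ⟨b, rfl⟩ := hσ z
    exact Ideal.mem_map_of_mem _ hz
  have h1 : Q.height ≤ Pb.height + (h₁ : ℕ∞) := by
    rw [← hh₁, ← he]
    rw [RingEquiv.height_map (R := MvPolynomial (Fin n) (A ⧸ p) ⧸ I) (S := MvPolynomial (Fin n) (A ⧸ P)) e]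
    exact Ideal.height_le_height_add_of_liesOver Pb Q
  haveI hm' : (m.map (Ideal.Quotient.mk q)).IsPrime := Ideal.map_isPrime_of_surjective
    Ideal.Quotient.mk_surjective (by rw [Ideal.mk_ker]; exact hqm)
  have h2 : (m.map (Ideal.Quotient.mk q)).height + (h₀ : ℕ∞) ≤ Q.height := by
    rw [← hh₀]
    haveI : (RingHom.ker ψq.toRingHom).IsPrime := RingHom.ker_isPrime _
    obtain ⟨l, hl, hlen⟩ := (RingHom.ker ψq.toRingHom).exists_ltSeries_length_eq_height
    obtain ⟨k, hk, hklen⟩ := (m.map (Ideal.Quotient.mk q)).exists_ltSeries_length_eq_height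
    have hψqs : Function.Surjective ψq := fun z => by
      obtain ⟨z, rfl⟩ := Ideal.Quotient.mk_surjective z
      obtain ⟨b, rfl⟩ := hφ z
      exact ⟨π b, hψq b⟩
    have hmono : StrictMono (PrimeSpectrum.comap ψq.toRingHom) :=
      RingHom.strictMono_comap_of_surjective hψqs
    let k' := k.map (PrimeSpectrum.comap ψq.toRingHom) hmono
    rw [← hklen, ← hlen]
    rw [(⟨Q, inferInstance⟩ : PrimeSpectrum _).height_eq_orderHeight]
    have hle : l.last ≤ k'.head := by
      rw [hl, LTSeries.head_map]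
      exact Ideal.comap_mono bot_le
    have hlast : k'.last ≤ ⟨Q, inferInstance⟩ := by
      rw [LTSeries.last_map, hk]
      intro z hz
      obtain ⟨b, rfl⟩ := hπ z
      show ψm (σ (π b)) = 0
      rw [hσπ, hψm, Ideal.Quotient.eq_zero_iff_mem]
      replace hz : ψq (π b) ∈ m.map (Ideal.Quotient.mk q) := hz
      rw [hψq] at hz
      have h3 : φ b ∈ (m.map (Ideal.Quotient.mk q)).comap (Ideal.Quotient.mk q) := hz
      rwa [Ideal.comap_map_of_surjective _ Ideal.Quotient.mk_surjective, ← RingHom.ker_eq_comap_bot,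
        Ideal.mk_ker, sup_eq_left.mpr hqm] at h3
    rcases hle.lt_or_eq with hlt | heq
    · refine le_trans ?_ (Order.length_le_height (p := RelSeries.append l k' hlt)
        (by rw [RelSeries.last_append]; exact hlast))
      simp only [RelSeries.append_length, Nat.cast_add, Nat.cast_one, k', LTSeries.map_length]
      rw [add_comm]
      exact le_self_add
    · refine le_trans ?_ (Order.length_le_height (p := RelSeries.smash l k' heq)
        (by rw [RelSeries.last_smash]; exact hlast))
      simp only [RelSeries.smash_length, Nat.cast_add, k', LTSeries.map_length]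
      rw [add_comm]
  haveI : IsNoetherianRing (A ⧸ p) := inferInstance
  obtain ⟨c, hc⟩ := ENat.ne_top_iff_exists.mp (Pb.height_ne_top_of_isPrime)
  obtain ⟨a, ha⟩ := ENat.ne_top_iff_exists.mp ((m.map (Ideal.Quotient.mk q)).height_ne_top_of_isPrime)
  refine ⟨a, c, ha.symm, hc.symm, ?_⟩
  rw [← ha] at h2
  rw [← hc] at h1
  have h3 : a + h₀ ≤ c + h₁ := by exact_mod_cast h2.trans h1
  omega

end Groth.Agent.DimFormula
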