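import Groth.Agent.DimFormula.Field
import Mathlib.RingTheory.MvPolynomial.Localization
import Mathlib.RingTheory.Localization.FractionRing
import Mathlib.RingTheory.Ideal.KrullsHeightTheorem

/-!
# The dimension inequality for finite type extensions of Noetherian domains
-/

set_option autoImplicit false
set_option linter.style.haveILetI false
universe u

open Groth.Agent

namespace Groth.Agent.DimFormula

/-- A prime of a polynomial ring over a domain meeting the base in zero: height plus transcendence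
degree of the quotient is the number of variables. -/
theorem exists_height_ker {R D : Type u} [CommRing R] [IsDomain R] [CommRing D] [IsDomain D]
    [Algebra R D] [FaithfulSMul R D] {n : ℕ} (ψ : MvPolynomial (Fin n) R →ₐ[R] D)
    (hψ : Function.Surjective ψ) :
    ∃ h t : ℕ, (RingHom.ker ψ.toRingHom).height = h ∧ Algebra.trdeg R D = t ∧ h + t = n := by
  let K := FractionRing R
  let B := MvPolynomial (Fin n) R
  let BK := MvPolynomial (Fin n) K
  let i : B →+* BK := MvPolynomial.map (algebraMap R K)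
  letI := i.toAlgebra
  haveI : IsLocalization ((nonZeroDivisors R).map (MvPolynomial.C (σ := Fin n))) BK :=
    MvPolynomial.isLocalization (nonZeroDivisors R) K
  set q : Ideal B := RingHom.ker ψ.toRingHom with hq
  haveI : q.IsPrime := RingHom.ker_isPrime _
  have hdisj : Disjoint (((nonZeroDivisors R).map (MvPolynomial.C (σ := Fin n)) : Submonoid B) : Set B)
      (q : Set B) := by
    rw [Set.disjoint_left]
    rintro _ ⟨r, hr, rfl⟩ hrq
    have h1 : algebraMap R D r = 0 := by
      rw [← ψ.commutes r]; exact hrq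
    exact nonZeroDivisors.ne_zero hr ((map_eq_zero_iff _ (FaithfulSMul.algebraMap_injective R D)).mp h1)
  set qK : Ideal BK := q.map (algebraMap B BK)
  haveI : qK.IsPrime := IsLocalization.isPrime_of_isPrime_disjoint _ BK q ‹_› hdisj
  have hht : qK.height = q.height := IsLocalization.height_map_of_disjoint _ q hdisj
  obtain ⟨h, t, s, hh, ht, hs, hsum⟩ := exists_height_add_trdeg K qK
  rw [MvPolynomial.trdeg_of_isDomain, Cardinal.mk_fin, Cardinal.lift_natCast, Nat.cast_inj] at hs
  subst hs
  refine ⟨h, t, hht ▸ hh, ?_, hsum⟩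
  -- `K[X]/qK` is algebraic over `D`
  let j : D →+* (BK ⧸ qK) := (RingHom.liftOfSurjective ψ.toRingHom hψ)
    ⟨(Ideal.Quotient.mk qK).comp i, fun b hb => by
      show Ideal.Quotient.mk qK (i b) = 0
      rw [Ideal.Quotient.eq_zero_iff_mem]
      exact Ideal.mem_map_of_mem _ hb⟩
  have hj : ∀ b, j (ψ b) = Ideal.Quotient.mk qK (i b) := fun b =>
    RingHom.liftOfRightInverse_comp_apply _ _ _ _ b
  letI : Algebra D (BK ⧸ qK) := RingHom.toAlgebra (R := D) (S := BK ⧸ qK) j
  haveI : IsScalarTower R D (BK ⧸ qK) := IsScalarTower.of_algebraMap_eq fun r => by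
    show _ = j (algebraMap R D r)
    rw [← ψ.commutes r, hj]
    show algebraMap K (BK ⧸ qK) (algebraMap R K r) = Ideal.Quotient.mk qK (i (MvPolynomial.C r))
    rw [MvPolynomial.map_C]
    rfl
  haveI : FaithfulSMul D (BK ⧸ qK) := (faithfulSMul_iff_algebraMap_injective _ _).mpr <| by
    rw [injective_iff_map_eq_zero]
    intro a ha
    obtain ⟨b, rfl⟩ := hψ a
    rw [show algebraMap D (BK ⧸ qK) (ψ b) = Ideal.Quotient.mk qK (i b) from hj b,
      Ideal.Quotient.eq_zero_iff_mem] at ha
    have h1 : b ∈ qK.under B := ha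
    rw [IsLocalization.under_map_of_isPrime_disjoint _ BK (by assumption : q.IsPrime) hdisj] at h1
    exact h1
  haveI : Algebra.IsAlgebraic D (BK ⧸ qK) := by
    refine ⟨fun z => ?_⟩
    obtain ⟨z, rfl⟩ := Ideal.Quotient.mk_surjective z
    obtain ⟨⟨b, m⟩, hbm⟩ := IsLocalization.surj ((nonZeroDivisors R).map (MvPolynomial.C (σ := Fin n))) z
    have hm0 : ψ m.1 ≠ 0 := fun e => Set.disjoint_left.mp hdisj m.2 e
    refine ⟨Polynomial.C (ψ m.1) * Polynomial.X - Polynomial.C (ψ b), fun e => hm0 ?_, ?_⟩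
    · simpa using congrArg (fun p : Polynomial D => p.coeff 1) e
    · simp only [map_sub, map_mul, Polynomial.aeval_C, Polynomial.aeval_X]
      show j (ψ m.1) * _ - j (ψ b) = 0
      rw [hj, hj, ← map_mul, sub_eq_zero]
      congr 1
      rw [mul_comm]
      exact hbm
  haveI : Algebra.IsAlgebraic R K :=
    (IsFractionRing.comap_isAlgebraic_iff (A := R) (K := K) (C := K)).mpr inferInstance
  have h1 := trdeg_add_eq R D (A := (BK ⧸ qK))
  rw [trdeg_eq_zero (R := D) (A := (BK ⧸ qK)), add_zero] at h1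
  have h2 := trdeg_add_eq R K (A := (BK ⧸ qK))
  rw [trdeg_eq_zero (R := R) (A := K), zero_add] at h2
  rw [h1, ← h2, ht]

/-- **The dimension inequality.** -/
theorem exists_dimension_inequality (R : Type u) [CommRing R] [IsDomain R] [IsNoetherianRing R]
    (S : Type u) [CommRing S] [IsDomain S] [Algebra R S] [FaithfulSMul R S] [Algebra.FiniteType R S]
    (p : Ideal R) [p.IsPrime] (q : Ideal S) [q.IsPrime] [q.LiesOver p] :
    ∃ a b c d : ℕ, q.height = a ∧ Algebra.trdeg (R ⧸ p) (S ⧸ q) = b ∧ p.height = c ∧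
      Algebra.trdeg R S = d ∧ a + b ≤ c + d := by
  haveI : IsNoetherianRing S := Algebra.FiniteType.isNoetherianRing R S
  obtain ⟨n, φ, hφ⟩ := Algebra.FiniteType.iff_quotient_mvPolynomial''.mp ‹Algebra.FiniteType R S›
  obtain ⟨h₀, d, hh₀, hd, hsum₀⟩ := exists_height_ker φ hφ
  let Q : Ideal (MvPolynomial (Fin n) R) := q.comap φ.toRingHom
  haveI : Q.LiesOver p := ⟨by
    rw [Ideal.LiesOver.over (p := p) (P := q)]
    ext r
    show _ ↔ φ (algebraMap R _ r) ∈ q
    rw [φ.commutes]
    rfl⟩
  -- the residual prime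
  let Rp := R ⧸ p
  let ψ : MvPolynomial (Fin n) Rp →ₐ[Rp] S ⧸ q :=
    MvPolynomial.aeval fun i => Ideal.Quotient.mk q (φ (MvPolynomial.X i))
  let π : MvPolynomial (Fin n) R →+* MvPolynomial (Fin n) Rp := MvPolynomial.map (Ideal.Quotient.mk p)
  have hπψ : ∀ b, ψ (π b) = Ideal.Quotient.mk q (φ b) := fun b => by
    refine RingHom.congr_fun (f := ψ.toRingHom.comp π) (g := (Ideal.Quotient.mk q).comp φ.toRingHom)
      (MvPolynomial.ringHom_ext (fun r => ?_) fun i => ?_) b
    · show ψ (π (MvPolynomial.C r)) = Ideal.Quotient.mk q (φ (algebraMap R _ r))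
      rw [MvPolynomial.map_C, MvPolynomial.aeval_C, φ.commutes]
      rfl
    · show ψ (π (MvPolynomial.X i)) = _
      rw [MvPolynomial.map_X, MvPolynomial.aeval_X]
      rfl
  have hψ : Function.Surjective ψ := fun z => by
    obtain ⟨z, rfl⟩ := Ideal.Quotient.mk_surjective z
    obtain ⟨b, rfl⟩ := hφ z
    exact ⟨π b, hπψ b⟩
  haveI : FaithfulSMul Rp (S ⧸ q) := (faithfulSMul_iff_algebraMap_injective _ _).mpr <| by
    rw [injective_iff_map_eq_zero]
    intro a ha
    obtain ⟨r, rfl⟩ := Ideal.Quotient.mk_surjective a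
    have h1 : algebraMap R S r ∈ q := Ideal.Quotient.eq_zero_iff_mem.mp ha
    rw [Ideal.Quotient.eq_zero_iff_mem, Ideal.LiesOver.over (p := p) (P := q)]
    exact h1
  obtain ⟨h₁, b, hh₁, hb, hsum₁⟩ := exists_height_ker ψ hψ
  -- identify the residual prime
  let I : Ideal (MvPolynomial (Fin n) R) := p.map (algebraMap R (MvPolynomial (Fin n) R))
  have hker : RingHom.ker π = I := by
    rw [MvPolynomial.ker_map, Ideal.mk_ker]
    rfl
  have hπs : Function.Surjective π := MvPolynomial.map_surjective _ Ideal.Quotient.mk_surjective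
  let e : (MvPolynomial (Fin n) R ⧸ I) ≃+* MvPolynomial (Fin n) Rp :=
    (Ideal.quotEquivOfEq hker.symm).trans (RingHom.quotientKerEquivOfSurjective hπs)
  have he : (Q.map (Ideal.Quotient.mk I)).map e = RingHom.ker ψ.toRingHom := by
    rw [show (Q.map (Ideal.Quotient.mk I)).map e = Q.map π from by
      rw [← Ideal.map_coe e, Ideal.map_map]
      congr 1]
    refine le_antisymm (Ideal.map_le_iff_le_comap.mpr fun b hb => ?_) fun z hz => ?_
    · show ψ (π b) = 0
      rw [hπψ, Ideal.Quotient.eq_zero_iff_mem]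
      exact hb
    · obtain ⟨b, rfl⟩ := hπs z
      refine Ideal.mem_map_of_mem _ ?_
      have : ψ (π b) = 0 := hz
      rw [hπψ, Ideal.Quotient.eq_zero_iff_mem] at this
      exact this
  have h1 : Q.height ≤ p.height + (h₁ : ℕ∞) := by
    rw [← hh₁, ← he, e.height_map]
    exact Ideal.height_le_height_add_of_liesOver p Q
  -- going up from the kernel
  have h2 : q.height + (h₀ : ℕ∞) ≤ Q.height := by
    rw [← hh₀]
    haveI : (RingHom.ker φ.toRingHom).IsPrime := RingHom.ker_isPrime _
    rw [(⟨q, ‹_›⟩ : PrimeSpectrum S).height_eq_orderHeight,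
      (⟨RingHom.ker φ.toRingHom, ‹_›⟩ : PrimeSpectrum _).height_eq_orderHeight,
      (⟨Q, inferInstance⟩ : PrimeSpectrum _).height_eq_orderHeight]
    obtain ⟨l, hl, hlen⟩ := (RingHom.ker φ.toRingHom).exists_ltSeries_length_eq_height
    obtain ⟨m, hm, hmlen⟩ := q.exists_ltSeries_length_eq_height
    have hmono : StrictMono (PrimeSpectrum.comap φ.toRingHom) :=
      RingHom.strictMono_comap_of_surjective hφ
    let m' := m.map (PrimeSpectrum.comap φ.toRingHom) hmono
    rw [← (⟨q, ‹_›⟩ : PrimeSpectrum S).height_eq_orderHeight, ← hmlen,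
      ← (⟨RingHom.ker φ.toRingHom, ‹_›⟩ : PrimeSpectrum _).height_eq_orderHeight, ← hlen]
    have hle : l.last ≤ m'.head := by
      rw [hl, LTSeries.head_map]
      exact Ideal.comap_mono bot_le
    have hlast : m'.last = ⟨Q, inferInstance⟩ := by rw [LTSeries.last_map, hm]; rfl
    rcases hle.lt_or_eq with hlt | heq
    · refine le_trans ?_ (Order.length_le_height (p := RelSeries.append l m' hlt)
        (by rw [RelSeries.last_append]; exact hlast.le))
      simp only [RelSeries.append_length, Nat.cast_add, Nat.cast_one, m', LTSeries.map_length]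
      rw [add_comm]
      exact le_self_add
    · refine le_trans ?_ (Order.length_le_height (p := RelSeries.smash l m' heq)
        (by rw [RelSeries.last_smash]; exact hlast.le))
      simp only [RelSeries.smash_length, Nat.cast_add, m', LTSeries.map_length]
      rw [add_comm]
  obtain ⟨c, hc⟩ := ENat.ne_top_iff_exists.mp (p.height_ne_top_of_isPrime)
  obtain ⟨a, ha⟩ := ENat.ne_top_iff_exists.mp (q.height_ne_top_of_isPrime)
  refine ⟨a, b, c, d, ha.symm, hb, hc.symm, hd, ?_⟩
  rw [← ha] at h2
  rw [← hc] at h1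
  have h3 : a + h₀ ≤ c + h₁ := by exact_mod_cast h2.trans h1
  omega

end Groth.Agent.DimFormula
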