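import Groth.Agent.DimFormula.Unibranch

/-!
# The dimension inequality along an irreducible closed subscheme
-/

set_option autoImplicit false
set_option linter.style.haveILetI false
universe u

open CategoryTheory AlgebraicGeometry Topology TopologicalSpace
open Groth.Agent Groth.Agent.Unibranch Groth.Agent.EquidimPt

namespace Groth.Agent.DimFormula

variable {X Y : Scheme.{u}}

/-- All dimensions attached to an irreducible closed subscheme `X'` through `x` and its image. -/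
theorem exists_sub_dims [IsLocallyNoetherian Y] (f : X ⟶ Y) [LocallyOfFiniteType f] (x : X)
    {Z Z' : Scheme.{u}} (ι : Z ⟶ X) [IsClosedImmersion ι] (j : Z' ⟶ Y) [IsClosedImmersion j]
    (S : Set X) (hS : IsIrreducible S) (hSc : IsClosed S) (hr : Set.range ι = S)
    (hr' : Set.range j = closure (f '' S)) (w : Z) (hw : ι w = x) (v : Z') (hv : j v = f x)
    (η' : Y) (hη' : closure ({η'} : Set Y) = closure (f '' S)) (hx : x ∈ S) :
    ∃ c c' b b' δ a' e' : ℕ,
      ringKrullDim (Y.presheaf.stalk (f x)) = (c : WithBot ℕ∞) ∧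
      ringKrullDim (Z'.presheaf.stalk v) = (c' : WithBot ℕ∞) ∧
      ringKrullDim ((f.fiber (f x)).presheaf.stalk (f.asFiber x)) = (b : WithBot ℕ∞) ∧
      ringKrullDim (((ι ≫ f).fiber ((ι ≫ f) w)).presheaf.stalk ((ι ≫ f).asFiber w)) = (b' : WithBot ℕ∞) ∧
      FlatMor.fibreDimAt (ι ≫ f) w = ((b' + δ : ℕ) : WithBot ℕ∞) ∧
      FlatMor.fibreDimAt f x = ((b + δ : ℕ) : WithBot ℕ∞) ∧
      FlatMor.localDim ↥(S ∩ f ⁻¹' {f x}) ⟨x, hx, rfl⟩ = ((b' + δ : ℕ) : WithBot ℕ∞) ∧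
      ringKrullDim (Z.presheaf.stalk w) = (a' : WithBot ℕ∞) ∧
      topologicalKrullDim ↥(S ∩ f ⁻¹' {η'}) = (e' : WithBot ℕ∞) ∧
      c' ≤ c ∧ b' ≤ b ∧ a' + δ ≤ c' + e' ∧ e' ≤ b' + δ := by
  haveI : IsLocallyNoetherian X := LocallyOfFiniteType.isLocallyNoetherian f
  haveI : IsLocallyNoetherian Z := LocallyOfFiniteType.isLocallyNoetherian ι
  obtain ⟨ζ, hζ⟩ := QuasiSober.sober hS hSc
  have hfζ : f ζ = η' := by
    have h1 : IsGenericPoint (f ζ) (closure (f '' S)) := hζ.image f.continuous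
    exact h1.eq hη'
  subst hfζ
  have hζS : closure ({ζ} : Set X) = S := hζ
  have hζx : ζ ⤳ x := hζ.specializes hx
  have hsp : ∀ p q, ι p ⤳ ι q ↔ p ⤳ q := fun p q => ι.isEmbedding.isInducing.specializes_iff
  obtain ⟨c, hc, hcle, -⟩ := exists_ringKrullDim_stalk (f x)
  obtain ⟨c', hc'le, hc'ge⟩ := exists_genLE_hasGen (hζx.map f.continuous)
  obtain ⟨a', ha'le, ha'ge⟩ := exists_genLE_hasGen hζx
  obtain ⟨b, δ, hb, hD, hδle, hδge, -⟩ := exists_fibre_dims f x
  obtain ⟨b', δ', hb', hD', hδ'le, hδ'ge, -⟩ := exists_fibre_dims (ι ≫ f) w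
  obtain ⟨e', he'le, he'ge, he'⟩ := exists_dim_closure_eq f ζ
  have hgw : (ι ≫ f) w = f x := by rw [Scheme.Hom.comp_apply, hw]
  -- chains in the closure of `x` agree
  have hδ : δ' = δ := by
    refine le_antisymm ?_ ?_
    · have h0 : HasChain (ι ≫ f) (closure {w}) (f x) δ' := by rw [← hgw]; exact hδ'ge
      have h1 := (hasChain_comp ι f).mp h0
      rw [hw] at h1
      exact h1.le hδle
    · have h1 : HasChain f (closure {ι w}) (f x) δ := by rw [hw]; exact hδge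
      have h2 := (hasChain_comp ι f).mpr h1
      rw [← hgw] at h2
      exact h2.le hδ'le
  subst hδ
  -- local dimension of `S` in the fibre
  have hloc : FlatMor.localDim ↥(S ∩ f ⁻¹' {f x}) ⟨x, hx, rfl⟩ = ((b' + δ' : ℕ) : WithBot ℕ∞) := by
    refine le_antisymm ((localDim_inter_le_iff f hSc.isLocallyClosed (y := f x) ⟨hx, rfl⟩).mpr ?_)
      ((natCast_le_localDim_inter_iff f hSc.isLocallyClosed (y := f x) ⟨hx, rfl⟩).mpr fun O hxO => ?_)
    · obtain ⟨U, hwU, hU⟩ := (fibreDimAt_le_iff (ι ≫ f) w).mp hD'.le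
      obtain ⟨O, hO, hOU⟩ := ι.isEmbedding.isInducing.isOpen_iff.mp U.2
      refine ⟨⟨O, hO⟩, show x ∈ O by rw [← hw]; exact hOU.ge hwU, fun k g hg hg' => ?_⟩
      choose d hd using fun i => hr.ge (hg i).1.2
      refine hU k d (fun i => ⟨hOU.le ?_, ?_⟩) fun i => ⟨(hsp _ _).mp ?_, ?_⟩
      · show ι (d i) ∈ O
        rw [hd]; exact (hg i).1.1
      · rw [Scheme.Hom.comp_apply, hd, hgw]; exact (hg i).2
      · rw [hd, hd]; exact (hg' i).1
      · exact fun h' => (hg' i).2 (by rw [← hd, ← hd, h'])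
    · obtain ⟨g, hg, hg'⟩ := (natCast_le_fibreDimAt_iff (ι ≫ f) w).mp hD'.ge (ι ⁻¹ᵁ O)
        (show ι w ∈ O by rw [hw]; exact hxO)
      exact ⟨fun i => ι (g i), fun i => ⟨⟨(hg i).1, hr.le ⟨_, rfl⟩⟩,
        (Scheme.Hom.comp_apply _ _ _).symm.trans ((hg i).2.trans hgw)⟩,
        fun i => ⟨(hg' i).1.map ι.continuous, fun h' => (hg' i).2 (ι.isEmbedding.injective h')⟩⟩
  obtain ⟨U, hxU, hU⟩ := (fibreDimAt_le_iff f x).mp hD.le
  have hb'b : b' ≤ b := by
    have h1 := (natCast_le_localDim_inter_iff f hSc.isLocallyClosed (y := f x) ⟨hx, rfl⟩).mp hloc.ge U hxU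
    have := (h1.mono Set.inter_subset_left).le hU
    omega
  have he'b' : e' ≤ b' + δ' := by
    obtain ⟨O, hxO, hO⟩ := (localDim_inter_le_iff f hSc.isLocallyClosed (y := f x) ⟨hx, rfl⟩).mp hloc.le
    exact he'ge.le (chainsLE_of_specializes f hζx hxO (by rw [hζS]; exact hO))
  have hineq := dimension_inequality f hζx ha'ge hc'le hδge he'le
  rw [← hζS] at hr hr'
  refine ⟨c, c', b, b', δ', a', e', hc, ?_, hb, hb', hD', hD, hloc, ?_, ?_,
    ?_, hb'b, hineq, he'b'⟩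
  · refine ringKrullDim_stalk_subscheme j (ζ := f ζ) (hr'.trans ?_) v (by rw [hv]; exact hc'le) (by rw [hv]; exact hc'ge)
    rw [hζS, hη']
  · exact ringKrullDim_stalk_subscheme ι hr w (by rw [hw]; exact ha'le) (by rw [hw]; exact ha'ge)
  · rw [← hζS]; exact he'
  · obtain ⟨g, hg, -, hgl⟩ := hc'ge
    exact hcle c' g hg hgl

end Groth.Agent.DimFormula
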