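import Groth.Agent.DimFormula.Open
import Groth.Agent.EquidimPt.Component
import Groth.Agent.Unibranch.EquidimAt
import Groth.Agent.Unibranch.Components

/-!
# Equidimensional morphisms over geometrically unibranch points
-/

set_option autoImplicit false
set_option linter.style.haveILetI false
universe u

open CategoryTheory AlgebraicGeometry Topology TopologicalSpace
open Groth.Agent Groth.Agent.Unibranch Groth.Agent.EquidimPt

namespace Groth.Agent.DimFormula

variable {X Y : Scheme.{u}}

theorem isEquidimAt_of_specializes (f : X ⟶ Y) {z x : X} (hzx : z ⤳ x) (hf : f z = f x)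
    (h : EGA43.IsEquidimAt f x) : EGA43.IsEquidimAt f z := by
  obtain ⟨e, U, hxU, h1, h2⟩ := h
  refine ⟨e, U, hzx.mem_open U.2 hxU, fun Z hZ => ?_, h2⟩
  obtain ⟨W, hW, hxW, hWZ⟩ := h1 Z hZ
  exact ⟨W, hW, show f z ∈ W from hf.symm ▸ hxW, hWZ⟩

/-- Over a geometrically unibranch point an equidimensional morphism has equidimensional local ring. -/
theorem isEquidim_stalk_of_isEquidimAt [IsLocallyNoetherian Y] (f : X ⟶ Y) [LocallyOfFiniteType f]
    (x : X) (hy : CAlg2.IsGeomUnibranch (Y.presheaf.stalk (f x))) (h : EGA43.IsEquidimAt f x) :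
    EGA4.IsEquidim (X.presheaf.stalk x) := by
  haveI : IsLocallyNoetherian X := LocallyOfFiniteType.isLocallyNoetherian f
  obtain ⟨A, hA, -, ξ, hξ, hξx, hξgen⟩ := exists_ringKrullDim_stalk x
  rw [isEquidim_stalk_iff x hA]
  intro ζ hζ hζx
  obtain ⟨e, U, hxU, he, hmax, hge, hle, -⟩ := exists_fibreDimAt_data f x h
  obtain ⟨c, hc, hcle, -⟩ := exists_ringKrullDim_stalk (f x)
  obtain ⟨b, δ, hb, hD, hδle, hδge, -⟩ := exists_fibre_dims f x
  rw [he, Nat.cast_inj] at hD
  obtain ⟨eξ, heξle, heξge, -⟩ := exists_dim_closure_eq f ξ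
  have heξ : eξ ≤ e := heξge.le (chainsLE_of_specializes f hξx hxU ((hle _).mono Set.inter_subset_left))
  have hAle := dimension_inequality f hξx hξgen
    (show GenLE (f ξ) (f x) c from fun n g h1 _ h3 => hcle n g h1 h3) hδge heξle
  -- the component
  obtain ⟨w, hwx, hW⟩ := isEquidimAt_component f hζx (hmax ζ (hζx.mem_open U.2 hxU) hζ)
    (hge ζ (hζx.mem_open U.2 hxU) hζ) ⟨U, hxU, (hle _).mono Set.inter_subset_left⟩
  let ι := (Scheme.IdealSheafData.vanishingIdeal (Closeds.closure ({ζ} : Set X))).subschemeι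
  let g := ι ≫ f
  have hr : Set.range ι = closure {ζ} := by
    rw [Scheme.IdealSheafData.range_subschemeι, Scheme.IdealSheafData.coe_support_vanishingIdeal]
    try rfl
  haveI := LocallyOfFiniteType.isLocallyNoetherian ι
  have hgw : g w = f x := by rw [Scheme.Hom.comp_apply, show ι w = x from hwx]
  obtain ⟨bW, δW, hbW, hDW, -, hδW, -⟩ := exists_fibre_dims g w
  have hlow := dim_le_of_isOpenAt g w fun z hz hzw _ =>
    isOpenAt_of_isUnivOpenAt g z (isUnivOpenAt_of_isEquidimAt g z (by rw [hz, hgw]; exact hy)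
      (exists_opens_finite_components _) (isEquidimAt_of_specializes g hzw hz hW))
  obtain ⟨aW, haW, -, a, hamax, haw, hagen⟩ := exists_ringKrullDim_stalk w
  rw [haW, hbW, hgw, hc, ← Nat.cast_add, Nat.cast_le] at hlow
  -- the fibre dimension of the component is `e`
  obtain ⟨eW, UW, hwUW, heW, -, hgeW, hleW, -⟩ := exists_fibreDimAt_data g w hW
  rw [heW, Nat.cast_inj] at hDW
  have hsp : ∀ p q, ι p ⤳ ι q ↔ p ⤳ q := fun p q => ι.isEmbedding.isInducing.specializes_iff
  obtain ⟨a₀, ha₀⟩ := hr.ge (subset_closure (Set.mem_singleton ζ))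
  have ha : ι a = ζ := by
    refine (congrArg ι ?_).trans ha₀
    exact (hamax a₀ ((hsp _ _).mp ((specializes_of_eq ha₀).trans (specializes_iff_mem_closure.mpr (hr.le ⟨a, rfl⟩))))).symm
  have hee : e ≤ eW := by
    have h1 := (hasChain_comp ι f (a := a) (k := e)).mpr (ha.symm ▸ (hge ζ (hζx.mem_open U.2 hxU) hζ))
    have h2 : HasChain g (closure {a}) (g a) e := by rwa [Scheme.Hom.comp_apply]
    exact h2.le (chainsLE_of_specializes g haw hwUW ((hleW _).mono Set.inter_subset_left))
  have hδ : δW ≤ δ := by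
    have h0 : HasChain g (closure {w}) (f x) δW := by rw [← hgw]; exact hδW
    have h1 := (hasChain_comp ι f).mp h0
    rw [show ι w = x from hwx] at h1
    exact h1.le hδle
  have hAa : A ≤ aW := by omega
  obtain ⟨c', hc'1, hc'2, hc'3⟩ := hagen
  refine HasGen.anti (n := aW) ⟨fun i => ι (c' i), fun i => ⟨(hc'1 i).1.map ι.continuous, fun e' => (hc'1 i).2 (ι.isEmbedding.injective e')⟩,
    (specializes_of_eq ha.symm).trans (hc'2.map ι.continuous), ?_⟩ hAa
  rw [← hwx, ← hc'3]

end Groth.Agent.DimFormula
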